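import Groth.Agent.L27.Lefschetz.Henselian
import Groth.Agent.L27.Lefschetz.Full

/-!
# Lefschetz: full faithfulness from a punctured spectrum to a hypersurface
-/

set_option autoImplicit false
set_option linter.style.haveILetI false
set_option backward.isDefEq.respectTransparency.types false
set_option backward.isDefEq.respectTransparency false
universe u

open CategoryTheory CategoryTheory.Limits AlgebraicGeometry TopologicalSpace IsLocalRing

noncomputable section

namespace Groth.L27.LefLocal

variable (A : Type u) [CommRing A] [IsNoetherianRing A] [IsLocalRing A] (f : A)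

theorem full_faithful (hf : f ∈ maximalIdeal A) [HenselianRing A (Ideal.span {f})]
    (h1 : ∃ n : ℕ, ∀ x : LocCoh.H (maximalIdeal A) 1 A, f ^ n • x = 0)
    (h2 : ∃ n : ℕ, ∀ x : LocCoh.H (maximalIdeal A) 2 A, f ^ n • x = 0) :
    (FEt.restrict (pullback.fst (FEt.puncturedSpec A).ι
      (Spec.map (CommRingCat.ofHom (Ideal.Quotient.mk (Ideal.span {f})))))).Full ∧
    (FEt.restrict (pullback.fst (FEt.puncturedSpec A).ι
      (Spec.map (CommRingCat.ofHom (Ideal.Quotient.mk (Ideal.span {f})))))).Faithful := by
  haveI : IsClosedImmersion (Spec.map (CommRingCat.ofHom (Ideal.Quotient.mk (Ideal.span {f})))) :=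
    IsClosedImmersion.spec_of_surjective _ Ideal.Quotient.mk_surjective
  let i := pullback.fst (FEt.puncturedSpec A).ι
    (Spec.map (CommRingCat.ofHom (Ideal.Quotient.mk (Ideal.span {f}))))
  have hr : ∀ x, x ∈ Set.range i ↔ x ∈ (lefIdeal A f).support := fun x => by
    rw [show Set.range i = _ from Scheme.Pullback.range_fst _ _, mem_support_iff]
    show (FEt.puncturedSpec A).ι x ∈ Set.range (PrimeSpectrum.comap (Ideal.Quotient.mk (Ideal.span {f}))) ↔ _
    rw [range_comap_of_surjective _ _ Ideal.Quotient.mk_surjective, Ideal.mk_ker,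
      PrimeSpectrum.zeroLocus_span, PrimeSpectrum.mem_zeroLocus]
    exact ⟨fun h => h rfl, fun h y hy => (Set.mem_singleton_iff.1 hy) ▸ h⟩
  have hset : Set.range i = ((lefIdeal A f).support : Set _) := Set.ext hr
  refine Groth.L27.LefFull.full_faithful_of_clopen i (fun g hg₁ hg₂ C hC hd => ?_) (fun g hg₁ hg₂ C₀ hC => ?_)
  · haveI := hg₁; haveI := hg₂
    exact clopen_empty_henselian A f hf h1 h2 g C hC fun z hz => (hset ▸ hd z hz :)
  · haveI := hg₁; haveI := hg₂
    rw [hset] at hC ⊢
    exact clopen_extend_henselian A f hf h1 h2 g C₀ hC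

end Groth.L27.LefLocal
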