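import Groth.Agent.L29.Formal.DualKill
import Groth.Agent.L06.FlatFibre
import Mathlib.RingTheory.Localization.LocalizationLocalization

/-!
# Torsion of local cohomology in degrees one and two from depth hypotheses off a hypersurface
-/

set_option autoImplicit false
set_option linter.style.haveILetI false
set_option backward.isDefEq.respectTransparency.types false
set_option backward.isDefEq.respectTransparency false
universe u

open CategoryTheory IsLocalRing

attribute [local instance] HasDerivedCategory.standard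

noncomputable section

namespace Groth.L27.LefDual

open Groth.L29 Groth.L29.HomD

variable {A : Type u} [CommRing A] [IsNoetherianRing A] [IsLocalRing A]

theorem exists_kills (f : A) (hd : ∃ ω : Dual.D A, Dual.IsDualizing A ω)
    (hc : ∀ p : Ideal A, ∀ _ : p.IsPrime, f ∉ p →
      (2 : WithBot ℕ∞) < (LocCoh.depth (Localization.AtPrime p) (Localization.AtPrime p) : WithBot ℕ∞) + ringKrullDim (A ⧸ p))
    (i : ℕ) (hi : i ≤ 2) : ∃ n : ℕ, ∀ x : LocCoh.H (maximalIdeal A) i A, f ^ n • x = 0 := by
  obtain ⟨ω, hω, hn⟩ := Groth.L29.DualKill.exists_normalized hd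
  haveI := finite_hom ω (good_of_isDualizing hω) A (-(i : ℤ))
  have hsupp : Module.support A (Dual.inD A A ⟶ ω⟦(-(i : ℤ))⟧) ⊆ PrimeSpectrum.zeroLocus {f} := by
    intro p hp
    rw [PrimeSpectrum.mem_zeroLocus, Set.singleton_subset_iff]
    by_contra hfp
    have h1 := Groth.L29.DualKill.depth_add_dim_le hω hn A i p hp
    have h3 : ((i : ℕ) : WithBot ℕ∞) ≤ (2 : WithBot ℕ∞) := by exact_mod_cast hi
    exact absurd (((hc p.asIdeal p.2 hfp).trans_le h1).trans_le h3) (lt_irrefl _)
  rw [Module.support_eq_zeroLocus, ← PrimeSpectrum.zeroLocus_span {f}, PrimeSpectrum.zeroLocus_subset_zeroLocus_iff, Ideal.span_singleton_le_iff_mem] at hsupp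
  obtain ⟨n, hn'⟩ := hsupp
  refine ⟨n, fun x => ?_⟩
  rw [← Groth.L29.DualKill.annihilator_H_eq hω hn A i] at hn'
  exact Module.mem_annihilator.1 hn' x

theorem depth_add_dim_of_S2 (f : A) (hf : f ∈ maximalIdeal A) (hd : ∃ ω : Dual.D A, Dual.IsDualizing A ω)
    (hS : LocCoh.HasSk 2 (Localization.Away f) (Localization.Away f))
    (hmin : ∀ p : Ideal A, p ∈ minimalPrimes A → f ∉ p → (3 : WithBot ℕ∞) ≤ ringKrullDim (A ⧸ p))
    (p : Ideal A) (hp : p.IsPrime) (hfp : f ∉ p) :
    (2 : WithBot ℕ∞) < (LocCoh.depth (Localization.AtPrime p) (Localization.AtPrime p) : WithBot ℕ∞) + ringKrullDim (A ⧸ p) := by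
  obtain ⟨ω, hω, hn⟩ := Groth.L29.DualKill.exists_normalized hd
  haveI : IsNoetherianRing (Localization.AtPrime p) := IsLocalization.isNoetherianRing p.primeCompl _ inferInstance
  have hdisj : Disjoint (Submonoid.powers f : Set A) (p : Set A) :=
    Set.disjoint_left.2 (by rintro _ ⟨k, rfl⟩ hx; exact hfp (hp.mem_of_pow_mem k hx))
  have hS' : min (2 : WithBot ℕ∞) (ringKrullDim (Localization.AtPrime p)) ≤
      ((LocCoh.depth (Localization.AtPrime p) (Localization.AtPrime p) : ℕ∞) : WithBot ℕ∞) := by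
    let Af := Localization.Away f
    haveI : IsNoetherianRing Af := IsLocalization.isNoetherianRing (Submonoid.powers f) Af inferInstance
    let P := p.map (algebraMap A Af)
    haveI hP : P.IsPrime := IsLocalization.isPrime_of_isPrime_disjoint (Submonoid.powers f) Af p hp hdisj
    haveI : IsNoetherianRing (Localization.AtPrime P) := IsLocalization.isNoetherianRing P.primeCompl _ inferInstance
    have hcomap : P.comap (algebraMap A Af) = p :=
      IsLocalization.under_map_of_isPrime_disjoint (Submonoid.powers f) Af hp hdisj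
    have key : ∀ (q : Ideal A) (hq : q.IsPrime), P.comap (algebraMap A Af) = q →
        Nonempty (Localization.AtPrime q ≃+* Localization.AtPrime P) := by
      rintro q hq rfl
      exact ⟨(IsLocalization.localizationLocalizationAtPrimeIsoLocalization (Submonoid.powers f) P).toRingEquiv⟩
    obtain ⟨ε⟩ := key p hp hcomap
    rw [ringKrullDim_eq_of_ringEquiv ε, ← Groth.L06.FlatFibre.depth_eq_of_ringEquiv ε]
    exact (Groth.L06.FlatFibre.hasSk_self_iff 2).1 hS P
  obtain ⟨e, he⟩ := Groth.L01.exists_dim_eq_nat (R := A ⧸ p)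
  obtain ⟨h, hh⟩ := Groth.L01.exists_dim_eq_nat (R := Localization.AtPrime p)
  have hht : p.height = h := by
    have := IsLocalization.AtPrime.ringKrullDim_eq_height p (Localization.AtPrime p)
    rw [hh] at this
    exact_mod_cast this.symm
  let P₀ : PrimeSpectrum A := ⟨p, hp⟩
  have hdP : Groth.L29.HomD.dimFun hω P₀ = (e : ℤ) := Groth.L29.HomD.dimFun_eq_dim hω hn P₀ e he
  have he1 : 1 ≤ e := by
    have hlt : P₀ < closedPoint A := lt_of_le_of_ne (le_maximalIdeal hp.ne_top) fun heq =>
      hfp (by rw [show p = maximalIdeal A from congrArg PrimeSpectrum.asIdeal heq]; exact hf)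
    obtain ⟨e₀, he₀⟩ := Groth.L01.exists_dim_eq_nat (R := A ⧸ (closedPoint A).asIdeal)
    have h1 := Groth.L29.HomD.dimFun_strictAnti hω hlt
    rw [hdP, Groth.L29.HomD.dimFun_eq_dim hω hn _ e₀ he₀] at h1
    omega
  have hdep : ∀ k : ℕ, k ≤ h → k ≤ 2 →
      (k : WithBot ℕ∞) ≤ ((LocCoh.depth (Localization.AtPrime p) (Localization.AtPrime p) : ℕ∞) : WithBot ℕ∞) :=
    fun k hk hk2 => le_trans (le_min (by exact_mod_cast hk2) (by rw [hh]; exact_mod_cast hk)) hS'
  have fin : ∀ k : ℕ, k ≤ h → k ≤ 2 → 2 < k + e →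
      (2 : WithBot ℕ∞) < (LocCoh.depth (Localization.AtPrime p) (Localization.AtPrime p) : WithBot ℕ∞) + ringKrullDim (A ⧸ p) := by
    intro k hk hk2 hlt
    refine lt_of_lt_of_le (b := ((k + e : ℕ) : WithBot ℕ∞)) (by exact_mod_cast hlt) ?_
    rw [he, Nat.cast_add]
    exact add_le_add (hdep k hk hk2) le_rfl
  rcases Nat.lt_or_ge 1 h with h2 | h2
  · exact fin 2 h2 le_rfl (by omega)
  rcases Nat.eq_zero_or_pos h with rfl | hpos
  · refine fin 0 le_rfl (by omega) ?_
    have := hmin p (Ideal.height_eq_zero_iff.1 (by rw [hht, Nat.cast_zero])) hfp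
    rw [he] at this
    have : 3 ≤ e := by exact_mod_cast this
    omega
  · obtain ⟨q, hq, hqp⟩ := Ideal.exists_minimalPrimes_le (show (⊥ : Ideal A) ≤ p from bot_le)
    have hfq : f ∉ q := fun h => hfp (hqp h)
    haveI := hq.1.1
    have hne : q ≠ p := fun heq => by
      have hp0 : p.height = 0 := Ideal.height_eq_zero_iff.2 (heq ▸ hq)
      rw [hht] at hp0
      have : h = 0 := by exact_mod_cast hp0
      omega
    let Q₀ : PrimeSpectrum A := ⟨q, hq.1.1⟩
    have hcov : Q₀ ⋖ P₀ := by
      refine ⟨lt_of_le_of_ne hqp fun h => hne (congrArg PrimeSpectrum.asIdeal h), fun R hQR hRP => ?_⟩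
      haveI := R.2
      have h3 : q.height + 1 ≤ R.asIdeal.height := Order.add_one_le_of_lt (Ideal.height_strict_mono_of_isPrime hQR)
      have h4 : R.asIdeal.height < p.height := Ideal.height_strict_mono_of_isPrime hRP
      rw [hht] at h4
      have h5 : (1 : ℕ∞) ≤ R.asIdeal.height := le_trans (by exact le_add_self) h3
      have h6 : (1 : ℕ∞) < (h : ℕ∞) := lt_of_le_of_lt h5 h4
      have : 1 < h := by exact_mod_cast h6
      omega
    obtain ⟨e', he'⟩ := Groth.L01.exists_dim_eq_nat (R := A ⧸ q)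
    have h7 := Groth.L29.HomD.dimFun_covBy hω Q₀ P₀ hcov
    rw [hdP, Groth.L29.HomD.dimFun_eq_dim hω hn Q₀ e' he'] at h7
    have h8 := hmin q hq hfq
    rw [he'] at h8
    have h9 : 3 ≤ e' := by exact_mod_cast h8
    exact fin 1 hpos (by omega) (by omega)

end Groth.L27.LefDual
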