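import Groth.Agent.L27.Lefschetz.Local
import Groth.Agent.L18.LocPicCI
import Groth.Agent.L04.LC.Change
import Groth.Agent.S0543
import Mathlib.RingTheory.AdicCompletion.AsTensorProduct

/-!
# The completion of a noetherian local ring along a proper principal ideal
-/

set_option autoImplicit false
set_option linter.style.haveILetI false
set_option backward.isDefEq.respectTransparency.types false
set_option backward.isDefEq.respectTransparency false
universe u

open CategoryTheory CategoryTheory.Limits AlgebraicGeometry TopologicalSpace IsLocalRing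

open scoped TensorProduct

noncomputable section

namespace Groth.L27.LefLocal

variable (A : Type u) [CommRing A] [IsNoetherianRing A] [IsLocalRing A] (I : Ideal A)

local notation "Ac" => AdicCompletion I A

theorem ker_evalOne_le_jacobson : RingHom.ker (AdicCompletion.evalOneₐ I).toRingHom ≤ (⊥ : Ideal Ac).jacobson := by
  have := AdicCompletion.isAdicComplete_self I (IsNoetherian.noetherian I)
  rw [AdicCompletion.ker_evalOneₐ_eq_map I (IsNoetherian.noetherian I)]
  exact IsAdicComplete.le_jacobson_bot _

theorem evalOne_surjective : Function.Surjective (AdicCompletion.evalOneₐ I).toRingHom := by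
  intro x
  obtain ⟨a, rfl⟩ := Ideal.Quotient.mk_surjective x
  exact ⟨algebraMap A Ac a, (AdicCompletion.evalOneₐ I).commutes a⟩

variable (hI : I ≤ maximalIdeal A)

include hI in
theorem isLocalRing_completion : IsLocalRing Ac := by
  haveI : Nontrivial (A ⧸ I) := Ideal.Quotient.nontrivial_iff.mpr
    fun h => (IsLocalRing.maximalIdeal.isMaximal A).ne_top (top_unique (h ▸ hI))
  haveI : IsLocalRing (A ⧸ I) := IsLocalRing.of_surjective' _ Ideal.Quotient.mk_surjective
  haveI : Nontrivial Ac := (AdicCompletion.evalOneₐ I).toRingHom.domain_nontrivial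
  haveI : IsLocalHom (AdicCompletion.evalOneₐ I).toRingHom := by
    refine ⟨fun x hx => ?_⟩
    obtain ⟨y, hy⟩ := evalOne_surjective A I (hx.unit⁻¹ : _ˣ).val
    have h1 : x * y - 1 ∈ (⊥ : Ideal Ac).jacobson := ker_evalOne_le_jacobson A I (by
      rw [RingHom.mem_ker, map_sub, map_mul, map_one, hy, sub_eq_zero]
      exact hx.mul_val_inv)
    have := Ideal.mem_jacobson_bot.mp h1 1
    rw [mul_one, sub_add_cancel] at this
    exact isUnit_of_mul_isUnit_left this
  exact RingHom.domain_isLocalRing (AdicCompletion.evalOneₐ I).toRingHom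

include hI in
theorem map_maximalIdeal [IsLocalRing Ac] : (maximalIdeal A).map (algebraMap A Ac) = maximalIdeal Ac := by
  refine le_antisymm ?_ fun x hx => ?_
  · rw [Ideal.map_le_iff_le_comap]
    haveI := (IsLocalRing.maximalIdeal.isMaximal Ac).isPrime
    intro a ha
    by_contra h
    have hu : IsUnit (algebraMap A Ac a) := notMem_maximalIdeal.1 h
    have hu2 := hu.map (AdicCompletion.evalOneₐ I).toRingHom
    rw [show (AdicCompletion.evalOneₐ I).toRingHom (algebraMap A Ac a) = Ideal.Quotient.mk I a from
      (AdicCompletion.evalOneₐ I).commutes a] at hu2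
    obtain ⟨b, hb⟩ := hu2.exists_right_inv
    obtain ⟨b, rfl⟩ := Ideal.Quotient.mk_surjective b
    rw [← map_mul, ← map_one (Ideal.Quotient.mk I), Ideal.Quotient.eq] at hb
    have := sub_mem ((maximalIdeal A).mul_mem_right b ha) (hI hb)
    rw [sub_sub_cancel] at this
    exact (IsLocalRing.maximalIdeal.isMaximal A).ne_top ((Ideal.eq_top_iff_one _).2 this)
  · obtain ⟨a, ha⟩ := Ideal.Quotient.mk_surjective ((AdicCompletion.evalOneₐ I).toRingHom x)
    have hax : algebraMap A Ac a - x ∈ (I.map (algebraMap A Ac)) := by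
      rw [← AdicCompletion.ker_evalOneₐ_eq_map I (IsNoetherian.noetherian I), RingHom.mem_ker, map_sub, ← ha]
      exact sub_eq_zero.2 ((AdicCompletion.evalOneₐ I).commutes a)
    have hle : I.map (algebraMap A Ac) ≤ (maximalIdeal A).map (algebraMap A Ac) := Ideal.map_mono hI
    have h2 : a ∈ maximalIdeal A := by
      by_contra h
      have hu : IsUnit (algebraMap A Ac a) := (notMem_maximalIdeal.1 h).map _
      have hmem : algebraMap A Ac a ∈ maximalIdeal Ac := by
        rw [show algebraMap A Ac a = (algebraMap A Ac a - x) + x by ring]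
        refine add_mem ?_ hx
        refine Ideal.map_le_iff_le_comap.2 (fun b hb => ?_) hax
        by_contra hb'
        have hu' : IsUnit (algebraMap A Ac b) := notMem_maximalIdeal.1 hb'
        have hu2 := hu'.map (AdicCompletion.evalOneₐ I).toRingHom
        rw [show (AdicCompletion.evalOneₐ I).toRingHom (algebraMap A Ac b) = Ideal.Quotient.mk I b from
          (AdicCompletion.evalOneₐ I).commutes b, Ideal.Quotient.eq_zero_iff_mem.2 hb] at hu2
        haveI : Nontrivial (A ⧸ I) := Ideal.Quotient.nontrivial_iff.mpr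
          fun h => (IsLocalRing.maximalIdeal.isMaximal A).ne_top (top_unique (h ▸ hI))
        exact not_isUnit_zero hu2
      exact (IsLocalRing.maximalIdeal.isMaximal Ac).ne_top ((Ideal.eq_top_iff_one _).2
        (by obtain ⟨v, hv⟩ := hu.exists_right_inv; rw [← hv]; exact Ideal.mul_mem_right v _ hmem))
    rw [show x = algebraMap A Ac a - (algebraMap A Ac a - x) by ring]
    exact sub_mem (Ideal.mem_map_of_mem _ h2) (hle hax)

include hI in
theorem comap_maximalIdeal [IsLocalRing Ac] : (maximalIdeal Ac).comap (algebraMap A Ac) = maximalIdeal A := by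
  refine ((IsLocalRing.maximalIdeal.isMaximal A).eq_of_le (Ideal.comap_ne_top _
    (IsLocalRing.maximalIdeal.isMaximal Ac).ne_top) ?_).symm
  rw [← Ideal.map_le_iff_le_comap, map_maximalIdeal A I hI]

include hI in
theorem preimage_punctured [IsLocalRing Ac] :
    Spec.map (CommRingCat.ofHom (algebraMap A Ac)) ⁻¹ᵁ FEt.puncturedSpec A = FEt.puncturedSpec Ac := by
  refine Groth.L18.LocPic.preimage_punctured _ (fun P hP => ?_) (comap_maximalIdeal A I hI)
  refine ((IsLocalRing.maximalIdeal.isMaximal Ac).eq_of_le P.2.ne_top ?_).symm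
  rw [← map_maximalIdeal A I hI, Ideal.map_le_iff_le_comap, hP]

include hI in
theorem kills_H [IsLocalRing Ac] (i : ℕ) (a : A)
    (h : ∀ x : LocCoh.H (maximalIdeal A) i A, a • x = 0) :
    ∀ x : LocCoh.H (maximalIdeal Ac) i Ac, algebraMap A Ac a • x = 0 := by
  haveI : IsNoetherianRing Ac := Groth.Agent.S0543.result A I
  obtain ⟨ψ⟩ := Groth.L04.LC.nonempty_H_baseChange_equiv (R' := Ac) (maximalIdeal A) i A
  have hR : Nonempty (LocCoh.H ((maximalIdeal A).map (algebraMap A Ac)) i (Ac ⊗[A] A) ≃ₗ[Ac]
      LocCoh.H (maximalIdeal Ac) i Ac) := by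
    rw [map_maximalIdeal A I hI]
    exact ⟨((localCohomology (maximalIdeal Ac) i).mapIso
      ((Algebra.TensorProduct.rid A Ac Ac).toLinearEquiv.toModuleIso)).toLinearEquiv⟩
  obtain ⟨ρ⟩ := hR
  intro x
  obtain ⟨y, rfl⟩ := (ψ ≪≫ₗ ρ).surjective x
  rw [← map_smul, show algebraMap A Ac a • y = 0 by
    rw [algebraMap_smul]
    induction y using TensorProduct.induction_on with
    | zero => rw [smul_zero]
    | tmul r m => rw [← TensorProduct.tmul_smul, h, TensorProduct.tmul_zero]
    | add y z hy hz => rw [smul_add, hy, hz, add_zero], map_zero]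

end Groth.L27.LefLocal
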