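import Groth.Agent.L27.Lefschetz.Idem
import Mathlib.AlgebraicGeometry.Pullbacks
import Mathlib.AlgebraicGeometry.Morphisms.Finite

/-!
# Clopens of the completed cover are saturated away from the special locus
-/

set_option autoImplicit false
set_option linter.style.haveILetI false
set_option backward.isDefEq.respectTransparency.types false
set_option backward.isDefEq.respectTransparency false
universe u

open CategoryTheory CategoryTheory.Limits AlgebraicGeometry TopologicalSpace

open scoped TensorProduct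

noncomputable section

namespace Groth.L27.LefSat

theorem isIntegral_pow_smul {A R C : Type u} [CommRing A] [CommRing R] [CommRing C] [Algebra A R]
    [Algebra R C] [Algebra A C] [IsScalarTower A R C] (f : A) [IsLocalization.Away f R] [Module.Finite R C] :
    IsUnit (algebraMap A C f) ∧ ∀ x : C, ∃ n : ℕ, IsIntegral A (f ^ n • x) := by
  refine ⟨?_, fun x => ?_⟩
  · rw [IsScalarTower.algebraMap_apply A R C]
    exact (IsLocalization.Away.algebraMap_isUnit f).map _
  · haveI : Algebra.IsIntegral R C := Algebra.IsIntegral.of_finite R C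
    obtain ⟨⟨m, n, rfl⟩, hm⟩ := IsIntegral.exists_multiple_integral_of_isLocalization
      (Submonoid.powers f) x (Algebra.IsIntegral.isIntegral (R := R) x)
    exact ⟨n, hm⟩

variable {A : Type u} [CommRing A] {f : A} [HenselianRing A (Ideal.span {f})]
  {Ac : Type u} [CommRing Ac] [Algebra A Ac] [Module.Flat A Ac]

/-- A clopen of `Spec (Ac ⊗ C)` is pulled back from `Spec C`. -/
theorem clopen_saturated_affine (h : LefIdem.IsCompletionLike (Ac := Ac) f) {C : Type u} [CommRing C] [Algebra A C]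
    (hC : ∀ x : C, ∃ n : ℕ, IsIntegral A (f ^ n • x)) (hf : IsUnit (algebraMap A C f))
    {S : Set (PrimeSpectrum (Ac ⊗[A] C))} (hS : IsClopen S) {w w' : PrimeSpectrum (Ac ⊗[A] C)}
    (hw : PrimeSpectrum.comap (Algebra.TensorProduct.includeRight (R := A) (A := Ac) (B := C)).toRingHom w =
      PrimeSpectrum.comap (Algebra.TensorProduct.includeRight (R := A) (A := Ac) (B := C)).toRingHom w')
    (hwS : w ∈ S) : w' ∈ S := by
  obtain ⟨e, he, rfl⟩ := PrimeSpectrum.exists_idempotent_basicOpen_eq_of_isClopen hS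
  obtain ⟨e₀, -, rfl⟩ := LefIdem.exists_idem_descend h hC hf e he
  have key : ∀ v : PrimeSpectrum (Ac ⊗[A] C), v ∈ PrimeSpectrum.basicOpen ((1 : Ac) ⊗ₜ[A] e₀) ↔
      PrimeSpectrum.comap (Algebra.TensorProduct.includeRight (R := A) (A := Ac) (B := C)).toRingHom v ∈
        PrimeSpectrum.basicOpen e₀ := fun v => Iff.rfl
  exact (key w').2 (hw ▸ (key w).1 hwS)

theorem saturated (hl : LefIdem.IsCompletionLike (Ac := Ac) f) {E Ec : Scheme.{u}}
    (r : E ⟶ Spec (CommRingCat.of A)) (π : Ec ⟶ E) (rc : Ec ⟶ Spec (CommRingCat.of Ac))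
    (sq : IsPullback π rc r (Spec.map (CommRingCat.ofHom (algebraMap A Ac))))
    (hfin : ((r.app (PrimeSpectrum.basicOpen f)).hom).Finite)
    (haff : IsAffineOpen (r ⁻¹ᵁ (PrimeSpectrum.basicOpen f)))
    {S : Set Ec} (hS : IsClopen S) (z z' : Ec) (hzz : π z = π z') (hz : r (π z) ∈ PrimeSpectrum.basicOpen f)
    (hzS : z ∈ S) : z' ∈ S := by
  let D : (Spec (CommRingCat.of A)).Opens := PrimeSpectrum.basicOpen f
  let R : Type u := (Spec.structureSheaf A).obj.obj (Opposite.op D)
  let C : Type u := Γ(E, r ⁻¹ᵁ D)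
  letI : Algebra R C := (r.app D).hom.toAlgebra
  let φ : A →+* C := (r.app D).hom.comp (algebraMap A R)
  letI : Algebra A C := φ.toAlgebra
  haveI : IsScalarTower A R C := IsScalarTower.of_algebraMap_eq' rfl
  haveI : IsLocalization.Away f R := StructureSheaf.IsLocalization.to_basicOpen (R := A) f
  haveI : Module.Finite R C := hfin
  obtain ⟨hu, hint⟩ := isIntegral_pow_smul (R := R) (C := C) f
  let o : Spec (CommRingCat.of C) ⟶ E := haff.fromSpec
  have hor : o ≫ r = Spec.map (CommRingCat.ofHom φ) := by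
    have h1 := IsAffineOpen.SpecMap_appLE_fromSpec r (isAffineOpen_top (Spec (CommRingCat.of A))) haff
      (V := r ⁻¹ᵁ D) le_top
    rw [IsAffineOpen.fromSpec_top, ← Scheme.Hom.map_appLE _ (le_refl (r ⁻¹ᵁ D)) (homOfLE (le_top : D ≤ ⊤)).op,
      ← Scheme.Hom.app_eq_appLE, Scheme.isoSpec_Spec_inv, ← Spec.map_comp] at h1
    refine h1.symm.trans (congrArg Spec.map ?_)
    ext a
    rfl
  have hsq : o ≫ r = Spec.map (CommRingCat.ofHom (algebraMap A C)) := hor
  let W := Spec (CommRingCat.of (Ac ⊗[A] C))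
  let iR : W ⟶ Spec (CommRingCat.of C) :=
    Spec.map (CommRingCat.ofHom (Algebra.TensorProduct.includeRight (R := A) (A := Ac) (B := C)).toRingHom)
  let iL : W ⟶ Spec (CommRingCat.of Ac) :=
    Spec.map (CommRingCat.ofHom Algebra.TensorProduct.includeLeftRingHom)
  have sqW : IsPullback iL iR (Spec.map (CommRingCat.ofHom (algebraMap A Ac)))
      (Spec.map (CommRingCat.ofHom (algebraMap A C))) :=
    isPullback_SpecMap_of_isPushout _ _ _ _ (CommRingCat.isPushout_tensorProduct A Ac C)
  let σ : W ⟶ Ec := sq.lift (iR ≫ o) iL (by rw [Category.assoc, hsq]; exact sqW.w.symm)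
  have hσπ : σ ≫ π = iR ≫ o := sq.lift_fst _ _ _
  have hσc : σ ≫ rc = iL := sq.lift_snd _ _ _
  have sqσ : IsPullback σ iR π o := by
    refine IsPullback.of_right ?_ hσπ sq.flip
    rw [hσc, hsq]
    exact sqW
  have hr : ∀ v : Ec, r (π v) ∈ D → ∃ w : W, σ w = v := fun v hv => by
    obtain ⟨c, hc⟩ : π v ∈ Set.range o := by
      show π v ∈ Set.range haff.fromSpec
      rw [haff.range_fromSpec]
      exact hv
    obtain ⟨t, ht, -⟩ := Scheme.Pullback.exists_preimage_pullback (f := π) (g := o) v c hc.symm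
    refine ⟨sqσ.isoPullback.inv t, ?_⟩
    rw [← Scheme.Hom.comp_apply, sqσ.isoPullback_inv_fst]
    exact ht
  obtain ⟨w, rfl⟩ := hr z hz
  obtain ⟨w', rfl⟩ := hr z' (hzz ▸ hz)
  have hww : iR w = iR w' := by
    refine haff.fromSpec.isOpenEmbedding.injective ?_
    show o (iR w) = o (iR w')
    rw [← Scheme.Hom.comp_apply, ← Scheme.Hom.comp_apply, ← hσπ, Scheme.Hom.comp_apply, Scheme.Hom.comp_apply]
    exact hzz
  exact clopen_saturated_affine hl hint hu (S := σ ⁻¹' S) (hS.preimage σ.continuous) hww hzS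

end Groth.L27.LefSat
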