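import Groth.Agent.L27.Lefschetz.Completion
import Groth.Agent.L27.Lefschetz.Saturated
import Groth.Agent.S2321

/-!
# Clopens of finite étale covers of a punctured spectrum over a henselian pair
-/

set_option autoImplicit false
set_option linter.style.haveILetI false
set_option backward.isDefEq.respectTransparency.types false
set_option backward.isDefEq.respectTransparency false
universe u

open CategoryTheory CategoryTheory.Limits AlgebraicGeometry TopologicalSpace IsLocalRing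

noncomputable section

namespace Groth.L27.LefLocal

variable (A : Type u) [CommRing A] [IsNoetherianRing A] [IsLocalRing A] (f : A)

theorem mem_support_iff (x : (FEt.puncturedSpec A : Scheme.{u})) :
    x ∈ (lefIdeal A f).support ↔ f ∈ ((FEt.puncturedSpec A).ι x).asIdeal := by
  haveI : IsClosedImmersion (Spec.map (CommRingCat.ofHom (Ideal.Quotient.mk (Ideal.span {f})))) :=
    IsClosedImmersion.spec_of_surjective _ Ideal.Quotient.mk_surjective
  rw [lefIdeal, Scheme.IdealSheafData.support_comap]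
  show (FEt.puncturedSpec A).ι x ∈
    ((Spec.map (CommRingCat.ofHom (Ideal.Quotient.mk (Ideal.span {f})))).ker.support : Set _) ↔ _
  rw [Scheme.Hom.support_ker, (Scheme.Hom.isClosedEmbedding _).isClosed_range.closure_eq]
  show _ ∈ Set.range (PrimeSpectrum.comap (Ideal.Quotient.mk (Ideal.span {f}))) ↔ _
  rw [range_comap_of_surjective _ _ Ideal.Quotient.mk_surjective, Ideal.mk_ker,
    PrimeSpectrum.zeroLocus_span, PrimeSpectrum.mem_zeroLocus]
  exact ⟨fun h => h rfl, fun h y hy => (Set.mem_singleton_iff.1 hy) ▸ h⟩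

theorem basicOpen_le_punctured (hf : f ∈ maximalIdeal A) :
    (PrimeSpectrum.basicOpen f : (Spec (CommRingCat.of A)).Opens) ≤ FEt.puncturedSpec A := fun p hp hc => by
  rw [Set.mem_singleton_iff] at hc
  subst hc
  exact hp hf

theorem baseChange_exists (hf : f ∈ maximalIdeal A) [HenselianRing A (Ideal.span {f})]
    (h1 : ∃ n : ℕ, ∀ x : LocCoh.H (maximalIdeal A) 1 A, f ^ n • x = 0)
    (h2 : ∃ n : ℕ, ∀ x : LocCoh.H (maximalIdeal A) 2 A, f ^ n • x = 0)
    {E : Scheme.{u}} (g : E ⟶ (FEt.puncturedSpec A : Scheme.{u})) [IsFinite g] [AlgebraicGeometry.Etale g] :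
    ∃ (Ec : Scheme.{u}) (π : Ec ⟶ E), Topology.IsQuotientMap π ∧
      (∀ C : Set Ec, IsClopen C → (∀ z ∈ C, g (π z) ∉ (lefIdeal A f).support) → C = ∅) ∧
      (∀ C₀ : Set E, IsClopen ((Subtype.val : (g ⁻¹' ((lefIdeal A f).support : Set _)) → E) ⁻¹' C₀) →
        ∃ C : Set Ec, IsClopen C ∧ (∀ z, g (π z) ∈ (lefIdeal A f).support → (z ∈ C ↔ π z ∈ C₀))) ∧
      (∀ C : Set Ec, IsClopen C → ∀ z z', π z = π z' → g (π z) ∉ (lefIdeal A f).support → z ∈ C → z' ∈ C) := by
  let I : Ideal A := Ideal.span {f}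
  have hI : I ≤ maximalIdeal A := (Ideal.span_singleton_le_iff_mem _).2 hf
  let Ac : Type u := AdicCompletion I A
  haveI : IsNoetherianRing Ac := Groth.Agent.S0543.result A I
  haveI : IsLocalRing Ac := isLocalRing_completion A I hI
  let fc : Ac := algebraMap A Ac f
  haveI : IsAdicComplete (Ideal.span {fc}) Ac := by
    have := AdicCompletion.isAdicComplete_self I (IsNoetherian.noetherian I)
    rwa [show I.map (algebraMap A Ac) = Ideal.span {fc} by rw [Ideal.map_span, Set.image_singleton]] at this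
  have hk : ∀ i, (∃ n : ℕ, ∀ x : LocCoh.H (maximalIdeal A) i A, f ^ n • x = 0) →
      ∃ n : ℕ, ∀ x : LocCoh.H (maximalIdeal Ac) i Ac, fc ^ n • x = 0 := fun i ⟨n, hn⟩ => ⟨n, fun x => by
    rw [← map_pow]
    exact kills_H A I hI i _ hn x⟩
  let U := FEt.puncturedSpec A
  let Uc := FEt.puncturedSpec Ac
  let c : Spec (CommRingCat.of Ac) ⟶ Spec (CommRingCat.of A) := Spec.map (CommRingCat.ofHom (algebraMap A Ac))
  have hpre : c ⁻¹ᵁ U = Uc := preimage_punctured A I hI
  let cU : (Uc : Scheme.{u}) ⟶ U := IsOpenImmersion.lift U.ι (Uc.ι ≫ c) (by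
    rw [Scheme.Opens.range_ι]
    rintro _ ⟨z, rfl⟩
    have hz : Uc.ι z ∈ c ⁻¹ᵁ U := by rw [hpre]; exact z.2
    exact hz)
  have hcU : cU ≫ U.ι = Uc.ι ≫ c := IsOpenImmersion.lift_fac _ _ _
  have sqU : IsPullback cU Uc.ι U.ι c :=
    IsOpenImmersion.isPullback _ _ _ _ hcU.symm (by
      rw [Scheme.Opens.opensRange_ι, Scheme.Opens.opensRange_ι, hpre])
  let Ec := pullback g cU
  let π : Ec ⟶ E := pullback.fst g cU
  let gc : Ec ⟶ Uc := pullback.snd g cU
  have sq : IsPullback π (gc ≫ Uc.ι) (g ≫ U.ι) c := (IsPullback.of_hasPullback g cU).paste_vert sqU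
  haveI : Flat c := (HasRingHomProperty.Spec_iff (P := @Flat)).mpr
    (show (algebraMap A Ac).Flat from RingHom.flat_algebraMap_iff.mpr inferInstance)
  haveI : Module.FaithfullyFlat A Ac := ((Groth.Agent.S2321.result A I).out 0 1).1
    (hI.trans (IsLocalRing.maximalIdeal_le_jacobson _))
  haveI : Surjective c := ⟨PrimeSpectrum.comap_surjective_of_faithfullyFlat⟩
  haveI : Flat π := MorphismProperty.of_isPullback sq.flip inferInstance
  haveI : QuasiCompact π := MorphismProperty.of_isPullback sq.flip inferInstance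
  haveI : Surjective π := MorphismProperty.of_isPullback sq.flip inferInstance
  haveI : IsFinite gc := inferInstance
  haveI : AlgebraicGeometry.Etale gc := inferInstance
  have hsupp : ∀ z : Ec, gc z ∈ (lefIdeal Ac fc).support ↔ g (π z) ∈ (lefIdeal A f).support := fun z => by
    rw [mem_support_iff, mem_support_iff]
    have h : U.ι (g (π z)) = c (Uc.ι (gc z)) := by
      simp only [← Scheme.Hom.comp_apply]
      exact congrArg (fun m : Ec ⟶ Spec (CommRingCat.of A) => m z) sq.w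
    rw [h]
    rfl
  refine ⟨Ec, π, Flat.isQuotientMap_of_surjective π, fun C hC hd => ?_, fun C₀ hC₀ => ?_, fun C hC z z' hzz hz hzC => ?_⟩
  · exact clopen_empty Ac fc (hk 1 h1) (hk 2 h2) gc C hC fun z hz => (hsupp z).not.2 (hd z hz)
  · obtain ⟨C, hC, hC'⟩ := clopen_extend Ac fc (hk 1 h1) (hk 2 h2) gc (π ⁻¹' C₀) (by
      let q : (gc ⁻¹' ((lefIdeal Ac fc).support : Set _)) → (g ⁻¹' ((lefIdeal A f).support : Set _)) :=
        fun z => ⟨π z.1, (hsupp z.1).1 z.2⟩
      have hq : Continuous q := Continuous.subtype_mk (π.continuous.comp continuous_subtype_val) _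
      exact hC₀.preimage hq)
    exact ⟨C, hC, fun z hz => hC' z ((hsupp z).2 hz)⟩
  · let r : E ⟶ Spec (CommRingCat.of A) := g ≫ U.ι
    let D : (Spec (CommRingCat.of A)).Opens := PrimeSpectrum.basicOpen f
    have hD : IsAffineOpen D := IsAffineOpen.Spec_basicOpen (R := CommRingCat.of A) f
    have hDU : D ≤ U.ι.opensRange := by
      rw [Scheme.Opens.opensRange_ι]
      exact basicOpen_le_punctured A f hf
    have hV : IsAffineOpen (U.ι ⁻¹ᵁ D) := hD.preimage_of_isOpenImmersion U.ι hDU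
    haveI : IsIso (U.ι.app D) := U.ι.isIso_app D hDU
    refine Groth.L27.LefSat.saturated (Groth.L27.LefIdem.isCompletionLike_adicCompletion f) r π (gc ≫ Uc.ι) sq
      ?_ (hV.preimage g) hC z z' hzz ?_ hzC
    · rw [show r.app D = U.ι.app D ≫ g.app (U.ι ⁻¹ᵁ D) from Scheme.Hom.comp_app _ _ _]
      exact RingHom.Finite.comp (g.finite_app _ hV)
        (RingHom.Finite.of_surjective _ (ConcreteCategory.bijective_of_isIso (U.ι.app D)).2)
    · exact fun h => hz ((mem_support_iff A f _).2 h)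

theorem clopen_empty_henselian (hf : f ∈ maximalIdeal A) [HenselianRing A (Ideal.span {f})]
    (h1 : ∃ n : ℕ, ∀ x : LocCoh.H (maximalIdeal A) 1 A, f ^ n • x = 0)
    (h2 : ∃ n : ℕ, ∀ x : LocCoh.H (maximalIdeal A) 2 A, f ^ n • x = 0)
    {E : Scheme.{u}} (g : E ⟶ (FEt.puncturedSpec A : Scheme.{u})) [IsFinite g] [AlgebraicGeometry.Etale g]
    (C : Set E) (hC : IsClopen C) (hd : ∀ z ∈ C, g z ∉ (lefIdeal A f).support) : C = ∅ := by
  obtain ⟨Ec, π, hπ, he, -, -⟩ := baseChange_exists A f hf h1 h2 g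
  have h := he (π ⁻¹' C) (hC.preimage hπ.continuous) fun z hz => hd _ hz
  rw [← hπ.surjective.image_preimage C, h, Set.image_empty]

theorem clopen_extend_henselian (hf : f ∈ maximalIdeal A) [HenselianRing A (Ideal.span {f})]
    (h1 : ∃ n : ℕ, ∀ x : LocCoh.H (maximalIdeal A) 1 A, f ^ n • x = 0)
    (h2 : ∃ n : ℕ, ∀ x : LocCoh.H (maximalIdeal A) 2 A, f ^ n • x = 0)
    {E : Scheme.{u}} (g : E ⟶ (FEt.puncturedSpec A : Scheme.{u})) [IsFinite g] [AlgebraicGeometry.Etale g]
    (C₀ : Set E) (hC : IsClopen ((Subtype.val : (g ⁻¹' ((lefIdeal A f).support : Set _)) → E) ⁻¹' C₀)) :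
    ∃ C : Set E, IsClopen C ∧ ∀ z, g z ∈ (lefIdeal A f).support → (z ∈ C ↔ z ∈ C₀) := by
  obtain ⟨Ec, π, hπ, -, hex, hsat⟩ := baseChange_exists A f hf h1 h2 g
  obtain ⟨C', hC', hCC⟩ := hex C₀ hC
  have hs : π ⁻¹' (π '' C') = C' := by
    refine Set.Subset.antisymm ?_ (Set.subset_preimage_image _ _)
    rintro z ⟨w, hw, hwz⟩
    by_cases h : g (π w) ∈ (lefIdeal A f).support
    · exact (hCC z (hwz ▸ h)).2 (hwz ▸ (hCC w h).1 hw)
    · exact hsat C' hC' w z hwz h hw
  refine ⟨π '' C', ⟨?_, ?_⟩, fun z hz => ?_⟩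
  · rw [← hπ.isClosed_preimage, hs]; exact hC'.isClosed
  · rw [← hπ.isOpen_preimage, hs]; exact hC'.isOpen
  · obtain ⟨w, rfl⟩ := hπ.surjective z
    refine Iff.trans ?_ (hCC w hz)
    exact ⟨fun h => hs ▸ h, fun h => ⟨w, h, rfl⟩⟩

end Groth.L27.LefLocal
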