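import Groth.Agent.L05.Hensel.Criteria
import Groth.Agent.L05.Hensel.Perm
import Groth.Agent.L05.Hensel.Gabber
import Mathlib.RingTheory.AdicCompletion.LocalRing
import Mathlib.RingTheory.Flat.Basic
import Mathlib.RingTheory.IntegralClosure.IntegralRestrict
import Mathlib.RingTheory.Localization.Integral

/-!
# Idempotents descend from the completion along a principal henselian ideal
-/

set_option autoImplicit false
set_option linter.style.haveILetI false
set_option backward.isDefEq.respectTransparency.types false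
set_option backward.isDefEq.respectTransparency false
universe u v w

open scoped TensorProduct

noncomputable section

namespace Groth.L27.LefIdem

section Abstract

variable {A : Type u} [CommRing A] (f : A) {Ac : Type v} [CommRing Ac] [Algebra A Ac]

/-- `Ac` agrees with `A` modulo every power of `f`. -/
structure IsCompletionLike : Prop where
  approx : ∀ (N : ℕ) (r : Ac), ∃ (a : A) (z : Ac), r = algebraMap A Ac a + f ^ N • z
  retr : ∀ N : ℕ, Nonempty (Ac →ₐ[A] A ⧸ Ideal.span {f ^ N})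
  jac : algebraMap A Ac f ∈ (⊥ : Ideal Ac).jacobson

variable {f} (h : IsCompletionLike (Ac := Ac) f) {B : Type w} [CommRing B] [Algebra A B]

include h in
theorem approx_tensor (N : ℕ) (β : Ac ⊗[A] B) :
    ∃ (b : B) (z : Ac ⊗[A] B), β = (1 : Ac) ⊗ₜ[A] b + f ^ N • z := by
  induction β using TensorProduct.induction_on with
  | zero => exact ⟨0, 0, by simp⟩
  | tmul r b =>
    obtain ⟨a, z, rfl⟩ := h.approx N r
    refine ⟨a • b, z ⊗ₜ b, ?_⟩
    rw [TensorProduct.add_tmul, TensorProduct.smul_tmul', Algebra.algebraMap_eq_smul_one, TensorProduct.smul_tmul]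
  | add β γ hβ hγ =>
    obtain ⟨b, z, rfl⟩ := hβ
    obtain ⟨c, w, rfl⟩ := hγ
    exact ⟨b + c, z + w, by rw [TensorProduct.tmul_add, smul_add]; abel⟩

include h in
theorem mem_of_tmul_eq (N : ℕ) (b : B) (z : Ac ⊗[A] B) (hb : (1 : Ac) ⊗ₜ[A] b = f ^ N • z) :
    ∃ b' : B, b = f ^ N • b' := by
  obtain ⟨ρ⟩ := h.retr N
  let J : Ideal B := Ideal.span {algebraMap A B (f ^ N)}
  let q : A ⧸ Ideal.span {f ^ N} →ₐ[A] B ⧸ J := Ideal.Quotient.liftₐ _ (Algebra.ofId A (B ⧸ J)) fun a ha => by
    obtain ⟨c, rfl⟩ := Ideal.mem_span_singleton'.1 ha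
    change algebraMap A (B ⧸ J) (c * f ^ N) = 0
    rw [IsScalarTower.algebraMap_apply A B (B ⧸ J), map_mul, Ideal.Quotient.algebraMap_eq,
      Ideal.Quotient.eq_zero_iff_mem]
    exact Ideal.mul_mem_left _ _ (Ideal.mem_span_singleton_self _)
  let Φ : Ac ⊗[A] B →ₐ[A] B ⧸ J := Algebra.TensorProduct.lift (q.comp ρ) (Ideal.Quotient.mkₐ A J)
    fun _ _ => Commute.all _ _
  have h0 : Φ ((1 : Ac) ⊗ₜ[A] b) = 0 := by
    rw [hb, map_smul, Algebra.smul_def, IsScalarTower.algebraMap_apply A B (B ⧸ J), Ideal.Quotient.algebraMap_eq,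
      Ideal.Quotient.eq_zero_iff_mem.2 (Ideal.mem_span_singleton_self _), zero_mul]
  simp only [Φ, Algebra.TensorProduct.lift_tmul, map_one, one_mul, Ideal.Quotient.mkₐ_eq_mk,
    Ideal.Quotient.eq_zero_iff_mem] at h0
  obtain ⟨c, hc⟩ := Ideal.mem_span_singleton'.1 h0
  exact ⟨c, by rw [← hc, Algebra.smul_def, mul_comm]⟩

end Abstract

section Descend

variable {A : Type u} [CommRing A] {f : A} [HenselianRing A (Ideal.span {f})]
  {Ac : Type v} [CommRing Ac] [Algebra A Ac] [Module.Flat A Ac]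
  {C : Type w} [CommRing C] [Algebra A C]

theorem exists_root_quadratic (B : Type w) [CommRing B] [Algebra A B] [Algebra.IsIntegral A B]
    (d : B) (k : ℕ) (hk : k ≠ 0) :
    ∃ y : B, y ^ 2 - y + f ^ k • d = 0 ∧ ∃ y' : B, y = f ^ k • y' := by
  haveI hB := Groth.L05.henselianRing_map_of_isIntegral (Ideal.span {f}) B
  let J : Ideal B := (Ideal.span {f}).map (algebraMap A B)
  let c : B := f ^ k • d
  have hc : c ∈ J := by
    obtain ⟨j, rfl⟩ := Nat.exists_eq_succ_of_ne_zero hk
    rw [show c = algebraMap A B f * (f ^ j • d) from by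
      simp only [c, pow_succ', mul_smul]
      rw [Algebra.smul_def]]
    exact Ideal.mul_mem_right _ _ (Ideal.mem_map_of_mem _ (Ideal.mem_span_singleton_self _))
  let p : Polynomial B := Polynomial.X ^ 2 - Polynomial.X + Polynomial.C c
  have hp : p.Monic := by
    simp only [p, sub_add]
    exact Polynomial.monic_X_pow_sub ((Polynomial.degree_sub_le _ _).trans
      (max_le Polynomial.degree_X_le (Polynomial.degree_C_le.trans zero_le_one)) |>.trans_lt (by norm_num))
  obtain ⟨y, hy, hy0⟩ := HenselianRing.is_henselian p hp (0 : B)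
    (by simpa [p] using hc) (by simp [p])
  have hroot : y ^ 2 - y + c = 0 := by simpa [p, Polynomial.IsRoot] using hy
  refine ⟨y, hroot, ?_⟩
  rw [sub_zero] at hy0
  have hu : IsUnit (y - 1) := by
    have := Ideal.mem_jacobson_bot.1 (HenselianRing.jac hy0) (-1)
    rw [mul_neg, mul_one] at this
    rw [show y - 1 = -(-y + 1) by ring]
    exact this.neg
  obtain ⟨v, hv⟩ := hu.exists_right_inv
  refine ⟨-(d * v), ?_⟩
  rw [smul_neg, ← smul_mul_assoc]
  change y = -(c * v)
  linear_combination (y ^ 2 - y) * 0 + v * hroot - y * hv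

theorem exists_idem_descend (h : IsCompletionLike (Ac := Ac) f)
    (hC : ∀ x : C, ∃ n : ℕ, IsIntegral A (f ^ n • x)) (hf : IsUnit (algebraMap A C f))
    (e : Ac ⊗[A] C) (he : IsIdempotentElem e) :
    ∃ e₀ : C, IsIdempotentElem e₀ ∧ (1 : Ac) ⊗ₜ[A] e₀ = e := by
  let B := integralClosure A C
  haveI : Algebra.IsIntegral A B := integralClosure.AlgebraIsIntegral
  let j : Ac ⊗[A] B →ₐ[A] Ac ⊗[A] C := Algebra.TensorProduct.map (AlgHom.id A Ac) B.val
  have hj : Function.Injective j :=
    Module.Flat.lTensor_preserves_injective_linearMap (M := Ac) B.val.toLinearMap Subtype.val_injective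
  -- clear denominators
  have hnum : ∀ z : Ac ⊗[A] C, ∃ (n : ℕ) (β : Ac ⊗[A] B), f ^ n • z = j β := by
    intro z
    induction z using TensorProduct.induction_on with
    | zero => exact ⟨0, 0, by rw [map_zero, smul_zero]⟩
    | tmul r x =>
      obtain ⟨n, hn⟩ := hC x
      exact ⟨n, r ⊗ₜ ⟨f ^ n • x, hn⟩, by
        rw [← TensorProduct.tmul_smul]; rfl⟩
    | add z w hz hw =>
      obtain ⟨n, β, hβ⟩ := hz
      obtain ⟨m, γ, hγ⟩ := hw
      exact ⟨n + m, f ^ m • β + f ^ n • γ, by
        rw [smul_add, map_add, map_smul, map_smul, ← hβ, ← hγ, smul_smul, smul_smul, ← pow_add, ← pow_add,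
          add_comm m n]⟩
  obtain ⟨n, β, hβ⟩ := hnum e
  have hβ2 : β * β = f ^ n • β := by
    apply hj
    rw [map_mul, map_smul, ← hβ, smul_mul_smul_comm, he.eq, smul_smul]
  obtain ⟨b₀, z, hz⟩ := approx_tensor h (3 * n + 1) β
  obtain ⟨r'', hr''⟩ : ∃ r'' : B, b₀ * b₀ - f ^ n • b₀ = f ^ (3 * n + 1) • r'' := by
    refine mem_of_tmul_eq h (3 * n + 1) _ ((f ^ n : A) • z - (β + (1 : Ac) ⊗ₜ[A] b₀) * z) ?_
    rw [TensorProduct.tmul_sub, TensorProduct.tmul_smul]
    rw [show ((1 : Ac) ⊗ₜ[A] (b₀ * b₀) : Ac ⊗[A] B) = (1 : Ac) ⊗ₜ b₀ * (1 : Ac) ⊗ₜ b₀ by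
      rw [Algebra.TensorProduct.tmul_mul_tmul, one_mul]]
    have hb : (1 : Ac) ⊗ₜ[A] b₀ = β - f ^ (3 * n + 1) • z := by rw [hz, add_sub_cancel_right]
    rw [hb]
    have hs : ∀ (a : A) (x : Ac ⊗[A] B), a • x = algebraMap A (Ac ⊗[A] B) a * x := fun a x => Algebra.smul_def a x
    simp only [hs] at hβ2 ⊢
    linear_combination hβ2
  -- the approximate idempotent
  let F : C := algebraMap A C f
  obtain ⟨G, hG⟩ := hf.exists_right_inv
  have hGn : ∀ m : ℕ, F ^ m * G ^ m = 1 := fun m => by rw [← mul_pow, hG, one_pow]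
  let ε : B := f ^ (n + 1) • r''
  have hεu : IsUnit (1 + 4 * ε) := by
    have hmem : ε ∈ (Ideal.span {f}).map (algebraMap A B) := by
      simp only [ε, pow_succ', mul_smul]
      rw [Algebra.smul_def]
      exact Ideal.mul_mem_right _ _ (Ideal.mem_map_of_mem _ (Ideal.mem_span_singleton_self _))
    have h2 := Ideal.mem_jacobson_bot.1
      (Groth.L05.map_le_jacobson_bot (HenselianRing.jac (I := Ideal.span {f})) hmem) 4
    rwa [mul_comm, add_comm] at h2
  obtain ⟨v, hv⟩ := hεu.exists_right_inv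
  obtain ⟨y, hy, y', hy'⟩ := exists_root_quadratic (f := f) B (r'' * v) (n + 1) (Nat.succ_ne_zero n)
  let x₀ : C := (b₀ : C) * G ^ n
  let e₀ : C := x₀ + (1 - 2 * x₀) * (y : C)
  have hidem : IsIdempotentElem e₀ := by
    have h1 : x₀ * x₀ - x₀ = (ε : C) := by
      have := congrArg (fun b : B => (b : C)) hr''
      simp only [Algebra.smul_def, map_pow, AddSubgroupClass.coe_sub, MulMemClass.coe_mul,
        SubmonoidClass.coe_pow, Subalgebra.coe_algebraMap, ε, x₀] at this ⊢
      have e1 := hGn n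
      calc _ = G ^ n * G ^ n * ((b₀ : C) * b₀ - F ^ n * b₀) := by
              linear_combination ((b₀ : C) * G ^ n) * e1
        _ = G ^ n * G ^ n * (F ^ (3 * n + 1) * (r'' : C)) := by rw [this]
        _ = (F ^ n * G ^ n) * (F ^ n * G ^ n) * (F ^ (n + 1) * (r'' : C)) := by ring
        _ = F ^ (n + 1) * (r'' : C) := by rw [e1, one_mul, one_mul]
    have h2 : ((y : C)) ^ 2 - (y : C) + (ε : C) * (v : C) = 0 := by
      have := congrArg (fun b : B => (b : C)) hy
      simp only [ε, Algebra.smul_def, AddMemClass.coe_add, AddSubgroupClass.coe_sub, SubmonoidClass.coe_pow,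
        MulMemClass.coe_mul, ZeroMemClass.coe_zero] at this ⊢
      linear_combination this
    have h3 : (1 + 4 * (ε : C)) * (v : C) = 1 := by
      have := congrArg (fun b : B => (b : C)) hv
      simp only [MulMemClass.coe_mul, AddMemClass.coe_add, OneMemClass.coe_one] at this
      exact this
    show e₀ * e₀ = e₀
    simp only [e₀]
    linear_combination (1 - 4 * (y : C) + 4 * (y : C) ^ 2) * h1 + (1 + 4 * (ε : C)) * h2 - (ε : C) * h3
  refine ⟨e₀, hidem, ?_⟩
  -- the two idempotents are close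
  let w : Ac ⊗[A] B := (1 : Ac) ⊗ₜ[A] ((2 * b₀ - f ^ n • 1) * y') + f ^ (2 * n) • z
  have hdiff : e - (1 : Ac) ⊗ₜ[A] e₀ = f • j w := by
    have hFn : IsUnit (algebraMap A (Ac ⊗[A] C) (f ^ n)) := by
      rw [map_pow]
      refine IsUnit.pow n ?_
      rw [IsScalarTower.algebraMap_apply A Ac (Ac ⊗[A] C)]
      change IsUnit ((algebraMap A Ac f) ⊗ₜ[A] (1 : C))
      rw [Algebra.algebraMap_eq_smul_one, TensorProduct.smul_tmul, ← Algebra.algebraMap_eq_smul_one]
      exact hf.map (Algebra.TensorProduct.includeRight : C →ₐ[A] Ac ⊗[A] C)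
    refine hFn.mul_left_cancel ?_
    simp only [← Algebra.smul_def, smul_sub]
    have h1 : f ^ n • ((1 : Ac) ⊗ₜ[A] e₀) =
        j ((1 : Ac) ⊗ₜ[A] (b₀ + (f ^ n • 1 - 2 * b₀) * y)) := by
      simp only [j, Algebra.TensorProduct.map_tmul, AlgHom.id_apply, ← TensorProduct.tmul_smul]
      congr 1
      simp only [e₀, x₀, Subalgebra.coe_val, AddMemClass.coe_add, MulMemClass.coe_mul, AddSubgroupClass.coe_sub,
        Algebra.smul_def, Subalgebra.coe_algebraMap, map_pow, SubmonoidClass.coe_pow, OneMemClass.coe_one, mul_one]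
      have e1 := hGn n
      have e2 : ((2 : B) : C) = 2 := rfl
      rw [e2]
      linear_combination ((b₀ : C) * (1 - 2 * (y : C))) * e1
    have hkey : β - (1 : Ac) ⊗ₜ[A] (b₀ + (f ^ n • (1 : B) - 2 * b₀) * y) = f ^ n • f • w := by
      have hB : (f ^ n • (1 : B) - 2 * b₀) * y = (f ^ n * f) • (-((2 * b₀ - f ^ n • 1) * y')) := by
        rw [hy', mul_smul_comm, pow_succ, ← neg_sub, neg_mul]
      rw [hz, hB, TensorProduct.tmul_add, TensorProduct.tmul_smul, TensorProduct.tmul_neg, smul_neg, smul_smul,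
        smul_add, smul_smul, show f ^ n * f * f ^ (2 * n) = f ^ (3 * n + 1) by ring]
      abel
    rw [h1, hβ, ← map_sub, hkey, map_smul, map_smul]
  -- a difference of idempotents divisible by `f` vanishes
  have hd3 : (e - (1 : Ac) ⊗ₜ[A] e₀) ^ 3 = e - (1 : Ac) ⊗ₜ[A] e₀ := by
    have h0 := hidem.map (Algebra.TensorProduct.includeRight : C →ₐ[A] Ac ⊗[A] C)
    rw [Algebra.TensorProduct.includeRight_apply] at h0
    generalize (1 : Ac) ⊗ₜ[A] e₀ = g at h0 ⊢
    have e1 := he.eq
    have e2 := h0.eq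
    linear_combination (e + 1 - 3 * g) * e1 - (g + 1 - 3 * e) * e2
  have hu : IsUnit (1 - (f • j w) ^ 2) := by
    haveI : Algebra.IsIntegral Ac (Ac ⊗[A] B) := Algebra.IsIntegral.tensorProduct A Ac B
    have hmem : algebraMap A (Ac ⊗[A] B) f * w ∈ (⊥ : Ideal (Ac ⊗[A] B)).jacobson := by
      refine Ideal.mul_mem_right _ _ ?_
      rw [IsScalarTower.algebraMap_apply A Ac (Ac ⊗[A] B)]
      exact Groth.L05.map_le_jacobson_bot (I := Ideal.span {algebraMap A Ac f})
        ((Ideal.span_singleton_le_iff_mem _).2 h.jac) (Ideal.mem_map_of_mem _ (Ideal.mem_span_singleton_self _))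
    have h2 := (Ideal.mem_jacobson_bot.1 hmem (-(algebraMap A (Ac ⊗[A] B) f * w))).map j
    rw [← map_smul, show f • w = algebraMap A (Ac ⊗[A] B) f * w from Algebra.smul_def f w]
    rw [map_add, map_mul, map_neg, map_one] at h2
    rw [show 1 - j (algebraMap A (Ac ⊗[A] B) f * w) ^ 2 =
      j (algebraMap A (Ac ⊗[A] B) f * w) * -j (algebraMap A (Ac ⊗[A] B) f * w) + 1 by ring]
    exact h2
  rw [hdiff] at hd3
  have h0 : f • j w = 0 := by
    refine hu.mul_left_eq_zero.1 ?_
    linear_combination -hd3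
  exact (sub_eq_zero.1 (hdiff.trans h0)).symm

end Descend

/-- The adic completion along a principal ideal. -/
theorem isCompletionLike_adicCompletion {A : Type u} [CommRing A] (f : A) :
    IsCompletionLike (Ac := AdicCompletion (Ideal.span {f}) A) f where
  approx N r := by
    obtain ⟨a, ha⟩ := Submodule.Quotient.mk_surjective _ (AdicCompletion.eval (Ideal.span {f}) A N r)
    have hk : r - algebraMap A (AdicCompletion (Ideal.span {f}) A) a ∈
        (AdicCompletion.eval (Ideal.span {f}) A N).ker := by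
      rw [LinearMap.mem_ker, map_sub, sub_eq_zero, ← ha]
      rfl
    rw [← AdicCompletion.pow_smul_top_eq_ker_eval (Submodule.fg_span_singleton f),
      Ideal.span_singleton_pow, Submodule.ideal_span_singleton_smul] at hk
    obtain ⟨z, -, hz⟩ := hk
    exact ⟨a, z, by rw [show f ^ N • z = r - algebraMap A _ a from hz]; abel⟩
  retr N := ⟨(Ideal.quotientEquivAlgOfEq A (Ideal.span_singleton_pow f N)).toAlgHom.comp
    (AdicCompletion.evalₐ (Ideal.span {f}) N)⟩
  jac := by
    have hfg : (Ideal.span {f}).FG := Submodule.fg_span_singleton f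
    haveI := AdicCompletion.isAdicComplete_self _ hfg
    exact IsAdicComplete.le_jacobson_bot _ (Ideal.mem_map_of_mem _ (Ideal.mem_span_singleton_self f))

end Groth.L27.LefIdem
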