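import Groth.Agent.L29.Formal.Principal
import Groth.Agent.L29.Formal.Bridge
import Groth.Agent.L18.LefFormal
import Groth.Agent.L06.FEtLef.QAffine
import Groth.Agent.L06.FEtLef.Full
import Groth.Agent.L16.HomSh.QAffineCompletion

/-!
# The formal Lefschetz condition for a punctured spectrum along a principal ideal
-/

set_option autoImplicit false
set_option linter.style.haveILetI false
set_option backward.isDefEq.respectTransparency.types false
set_option backward.isDefEq.respectTransparency false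
universe u

open CategoryTheory CategoryTheory.Limits AlgebraicGeometry TopologicalSpace IsLocalRing

noncomputable section

namespace Groth.L27.LefLocal

variable (A : Type u) [CommRing A] [IsNoetherianRing A] [IsLocalRing A]

theorem puncturedSpec_eq : FEt.puncturedSpec A = LocCoh.puncturedOpen A (maximalIdeal A) := by
  refine Opens.ext (Set.ext fun p => not_congr ?_)
  exact ⟨fun h => (show p = IsLocalRing.closedPoint A from h) ▸ (fun _ hm => hm),
    fun h => PrimeSpectrum.ext (((IsLocalRing.maximalIdeal.isMaximal A).eq_of_le p.2.ne_top h).symm)⟩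

/-- The punctured spectrum as a subscheme, with ideal the pullback of `(f)`. -/
abbrev lefIdeal (f : A) : (FEt.puncturedSpec A : Scheme.{u}).IdealSheafData :=
  (Spec.map (CommRingCat.ofHom (Ideal.Quotient.mk (Ideal.span {f})))).ker.comap (FEt.puncturedSpec A).ι

theorem homToFormalBijective (f : A) [IsAdicComplete (Ideal.span {f}) A]
    (h1 : ∃ n : ℕ, ∀ x : LocCoh.H (maximalIdeal A) 1 A, f ^ n • x = 0)
    (h2 : ∃ n : ℕ, ∀ x : LocCoh.H (maximalIdeal A) 2 A, f ^ n • x = 0)
    (D : (FEt.puncturedSpec A : Scheme.{u}).Modules) (hD : FlatMod.IsFinLocFree D) :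
    Lef.HomToFormalBijective (lefIdeal A f) D := by
  haveI : CompactSpace ↥(↑(FEt.puncturedSpec A) : Scheme.{u}) :=
    isCompact_iff_compactSpace.1 (NoetherianSpace.isCompact (α := PrimeSpectrum A) _)
  haveI : (↑(FEt.puncturedSpec A) : Scheme.{u}).IsQuasiAffine :=
    Scheme.IsQuasiAffine.of_isImmersion (FEt.puncturedSpec A).ι
  haveI : AlgebraicGeometry.IsNoetherian (↑(FEt.puncturedSpec A) : Scheme.{u}) := { }
  refine Groth.L06.FEtLef.homToFormalBijective_quasiAffine _
    (Groth.L18.LefFormal.homToFormalBijective_structure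
      (Groth.L18.LefFormal.secFormal_of_toHHlim _ _ ?_)) hD
  have h := Groth.L29.Bridge.toHHlim_bijective (FEt.puncturedSpec A) (Ideal.span {f}) A
    (by rw [puncturedSpec_eq]; exact Groth.L29.Formal.formalCohBijective (maximalIdeal A) f (M := A) 0 h1 h2)
  refine Groth.L16.HomSh.bijective_toHHlim_of_iso _ ?_ h
  exact (Groth.L29.LocFree.pullbackUnitIso (FEt.puncturedSpec A).ι).symm ≪≫
    ((Scheme.Modules.restrictFunctorIsoPullback (FEt.puncturedSpec A).ι).app _).symm ≪≫
    (Scheme.Modules.restrictFunctor (FEt.puncturedSpec A).ι).mapIso tildeSelf.symm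

theorem clopen_empty (f : A) [IsAdicComplete (Ideal.span {f}) A]
    (h1 : ∃ n : ℕ, ∀ x : LocCoh.H (maximalIdeal A) 1 A, f ^ n • x = 0)
    (h2 : ∃ n : ℕ, ∀ x : LocCoh.H (maximalIdeal A) 2 A, f ^ n • x = 0)
    {E : Scheme.{u}} (g : E ⟶ (FEt.puncturedSpec A : Scheme.{u})) [IsFinite g] [AlgebraicGeometry.Etale g]
    (C : Set E) (hC : IsClopen C) (hd : ∀ z ∈ C, g z ∉ (lefIdeal A f).support) : C = ∅ :=
  Groth.L06.FEtLef.clopen_empty _ (homToFormalBijective A f h1 h2) g C hC hd

theorem clopen_extend (f : A) [IsAdicComplete (Ideal.span {f}) A]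
    (h1 : ∃ n : ℕ, ∀ x : LocCoh.H (maximalIdeal A) 1 A, f ^ n • x = 0)
    (h2 : ∃ n : ℕ, ∀ x : LocCoh.H (maximalIdeal A) 2 A, f ^ n • x = 0)
    {E : Scheme.{u}} (g : E ⟶ (FEt.puncturedSpec A : Scheme.{u})) [IsFinite g] [AlgebraicGeometry.Etale g]
    (C₀ : Set E) (hC : IsClopen ((Subtype.val : (g ⁻¹' ((lefIdeal A f).support : Set _)) → E) ⁻¹' C₀)) :
    ∃ C : Set E, IsClopen C ∧ ∀ z, g z ∈ (lefIdeal A f).support → (z ∈ C ↔ z ∈ C₀) :=
  Groth.L06.FEtLef.clopen_extend _ (homToFormalBijective A f h1 h2) g C₀ hC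

end Groth.L27.LefLocal
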