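import Groth.Agent.L27.Lefschetz.NbhdTop
import Groth.Agent.L10.Shriek.Adjoint
import Groth.Agent.L22.DimFormulaScheme
import Groth.Agent.L19.Approx.FiniteExtend
import Groth.Agent.L04.LC.TopTensor
import Groth.Agent.S0814
import Groth.Agent.S1721
import Groth.Agent.S1772
import Groth.Agent.S4689
import Groth.Agent.S9405
import Mathlib.AlgebraicGeometry.Morphisms.UniversallyOpen
import Mathlib.Topology.Sober

/-!
# Components of finite étale covers near a hypersurface of a punctured spectrum stay connected on it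
-/

set_option autoImplicit false
set_option linter.style.haveILetI false
set_option backward.isDefEq.respectTransparency false
set_option backward.isDefEq.respectTransparency.types false
universe u

open CategoryTheory CategoryTheory.Limits AlgebraicGeometry TopologicalSpace IsLocalRing

attribute [local instance] HasDerivedCategory.standard

noncomputable section

namespace Groth.L27.LefNbhd

variable {A : Type u} [CommRing A] [IsNoetherianRing A] [IsLocalRing A] (f : A)

theorem preconnected_domain (hf : f ∈ maximalIdeal A) (hd : ∃ ω : Dual.D A, Dual.IsDualizing A ω)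
    [IsAdicComplete (Ideal.span {f}) A] (T : Type u) [CommRing T] [IsDomain T] [Algebra A T] [Module.Finite A T]
    (hdim : (3 : WithBot ℕ∞) ≤ ringKrullDim (A ⧸ RingHom.ker (algebraMap A T))) :
    _root_.IsPreconnected (PrimeSpectrum.zeroLocus ({algebraMap A T f} : Set T) \
      PrimeSpectrum.zeroLocus ((maximalIdeal A).map (algebraMap A T) : Set T)) := by
  haveI : IsNoetherianRing T := IsNoetherianRing.of_finite A T
  let ft : T := algebraMap A T f
  let I : Ideal T := Ideal.span {ft}
  have hI : I = (Ideal.span {f}).map (algebraMap A T) := by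
    rw [Ideal.map_span, Set.image_singleton]
  haveI : IsAdicComplete I T := by
    rw [hI, IsAdicComplete.map_algebraMap_iff]
    exact Groth.Agent.S9405.isAdicComplete_of_finite _ T
  obtain ⟨ω, hω⟩ := hd
  obtain ⟨R, ⟨adj⟩⟩ := Groth.L10.Shriek.exists_rightAdjoint (algebraMap A T)
  have hωT : ∃ ω' : Dual.D T, Dual.IsDualizing T ω' := ⟨_, Groth.Agent.S1772.result A T R adj ω hω⟩
  have hcd : LocCoh.CdLE T I 1 :=
    Groth.L04.LC.cdLE_of_radical I (fun _ : Fin 1 => ft) (fun _ => Ideal.mem_span_singleton_self _)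
      (le_trans (Ideal.span_le.2 (Set.singleton_subset_iff.2 (Ideal.subset_span (Set.mem_range_self (f := fun _ : Fin 1 => ft) 0)))) Ideal.le_radical)
  rw [← PrimeSpectrum.zeroLocus_span {algebraMap A T f}]
  refine Groth.Agent.S0814.result T I ((maximalIdeal A).map (algebraMap A T))
    ((Ideal.span_singleton_le_iff_mem _).2 (Ideal.mem_map_of_mem _ hf)) hωT 1 hcd (fun p hp _ q _ _ hq => ?_) ?_
  · let K := RingHom.ker (algebraMap A T)
    haveI : K.IsPrime := RingHom.ker_isPrime _
    haveI : IsLocalRing (A ⧸ K) := IsLocalRing.of_surjective' _ Ideal.Quotient.mk_surjective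
    letI : Algebra (A ⧸ K) T := (RingHom.kerLift (algebraMap A T)).toAlgebra
    haveI : IsScalarTower A (A ⧸ K) T := IsScalarTower.of_algebraMap_eq fun a => rfl
    haveI : Module.Finite (A ⧸ K) T := Module.Finite.of_restrictScalars_finite A (A ⧸ K) T
    haveI : FaithfulSMul (A ⧸ K) T :=
      (faithfulSMul_iff_algebraMap_injective _ _).2 (RingHom.kerLift_injective _)
    have hbot : p = ⊥ := le_antisymm (hp.2 ⟨Ideal.isPrime_bot, le_rfl⟩ bot_le) bot_le
    haveI : Algebra.IsIntegral A T := Algebra.IsIntegral.of_finite A T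
    haveI : q.IsMaximal := by
      refine Ideal.isMaximal_of_isIntegral_of_isMaximal_comap (R := A) q ?_
      rw [show q.comap (algebraMap A T) = maximalIdeal A from ((IsLocalRing.maximalIdeal.isMaximal A).eq_of_le
        (Ideal.comap_ne_top _ (Ideal.IsPrime.ne_top inferInstance)) (Ideal.map_le_iff_le_comap.1 hq)).symm]
      infer_instance
    have hdimq := Groth.Agent.S4689.result (A ⧸ K) T
      (Groth.L22.DimFormula.isUniversallyCatenary_quotient (Groth.Agent.S1721.result A ω hω) K) q
    subst hbot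
    show _ < ringKrullDim (Localization.AtPrime q ⧸ Ideal.map (algebraMap T (Localization.AtPrime q)) ⊥)
    rw [Ideal.map_bot, ringKrullDim_eq_of_ringEquiv (RingEquiv.quotientBot _), hdimq]
    exact lt_of_lt_of_le (by exact_mod_cast (show (1 + 1 : ℕ) < 3 by omega)) hdim
  · intro V hV hne _
    exact ⟨hne, ((irreducibleSpace_def (PrimeSpectrum T)).1 inferInstance).isPreirreducible.open_subset hV
      (Set.subset_univ V) |>.isPreconnected⟩

theorem exists_clopen_nbhd_dual (hf : f ∈ maximalIdeal A) (hd : ∃ ω : Dual.D A, Dual.IsDualizing A ω)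
    [IsAdicComplete (Ideal.span {f}) A]
    (hc : ∀ p : Ideal A, p ∈ minimalPrimes A → f ∉ p → (3 : WithBot ℕ∞) ≤ ringKrullDim (A ⧸ p))
    (U' : (Spec (CommRingCat.of A)).Opens) (hU' : U' ≤ FEt.puncturedSpec A)
    (hmem : ∀ q : PrimeSpectrum A, f ∈ q.asIdeal → q ≠ closedPoint A → q ∈ U')
    {E : Scheme.{u}} (g : E ⟶ (U' : Scheme.{u})) [IsFinite g] [AlgebraicGeometry.Etale g] (C₀ : Set E)
    (hC₀ : IsClopen ((Subtype.val : (g ⁻¹' {z : (U' : Scheme.{u}) | f ∈ (U'.ι z).asIdeal}) → E) ⁻¹' C₀)) :
    ∃ O : (U' : Scheme.{u}).Opens, {z : (U' : Scheme.{u}) | f ∈ (U'.ι z).asIdeal} ⊆ (O : Set (U' : Scheme.{u})) ∧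
      ∃ C : Set E, IsClopen ((Subtype.val : (g ⁻¹' (O : Set (U' : Scheme.{u}))) → E) ⁻¹' C) ∧
        ∀ z, f ∈ (U'.ι (g z)).asIdeal → (z ∈ C ↔ z ∈ C₀) := by
  let S : Set (U' : Scheme.{u}) := {z | f ∈ (U'.ι z).asIdeal}
  have hcpt : IsCompact (U' : Set (Spec (CommRingCat.of A))) := NoetherianSpace.isCompact (α := PrimeSpectrum A) _
  obtain ⟨B, _, _, i, hB, sq⟩ := Groth.L19.Approx.exists_finite_extend U' hcpt g
  let π : Spec (CommRingCat.of B) ⟶ Spec (CommRingCat.of A) := Spec.map (CommRingCat.ofHom (algebraMap A B))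
  haveI : IsOpenImmersion i := MorphismProperty.of_isPullback (P := @IsOpenImmersion) sq.flip inferInstance
  haveI : IsNoetherianRing B := IsNoetherianRing.of_finite A B
  haveI : NoetherianSpace ↥(Spec (CommRingCat.of B)) := inferInstanceAs (NoetherianSpace (PrimeSpectrum B))
  haveI : NoetherianSpace E := i.isOpenEmbedding.isInducing.noetherianSpace
  have hw : ∀ z : E, π (i z) = U'.ι (g z) := fun z => by
    rw [← Scheme.Hom.comp_apply, ← Scheme.Hom.comp_apply]
    exact congrArg (fun m : E ⟶ Spec (CommRingCat.of A) => m z) sq.w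
  have hri : ∀ Q : Spec (CommRingCat.of B), π Q ∈ U' → Q ∈ Set.range i := fun Q hQ => by
    obtain ⟨t, ht, -⟩ := Scheme.Pullback.exists_preimage_pullback (f := π) (g := U'.ι) Q ⟨π Q, hQ⟩ rfl
    refine ⟨sq.isoPullback.inv t, ?_⟩
    rw [← Scheme.Hom.comp_apply, sq.isoPullback_inv_fst]
    exact ht
  suffices key : ∀ Z ∈ irreducibleComponents E, _root_.IsPreconnected (Z ∩ g ⁻¹' S) by
    obtain ⟨O, hO, hSO, C, hC, hCC⟩ := exists_nbhd_clopen g g.isClosedMap S key C₀ hC₀
    exact ⟨⟨O, hO⟩, hSO, C, hC, fun z hz => hCC z hz⟩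
  intro Z hZ
  have hZirr : IsIrreducible Z := hZ.1
  have hZcl : IsClosed Z := isClosed_of_mem_irreducibleComponents Z hZ
  let η : E := hZirr.genericPoint
  have hη : IsGenericPoint η Z := by
    have := hZirr.isGenericPoint_genericPoint_closure
    rwa [hZcl.closure_eq] at this
  let P : PrimeSpectrum B := i η
  let p : PrimeSpectrum A := π P
  have hpη : p = U'.ι (g η) := hw η
  have hpmin : p.asIdeal ∈ minimalPrimes A := by
    refine ⟨⟨p.2, bot_le⟩, fun q hq hqp => ?_⟩
    let Q : PrimeSpectrum A := ⟨q, hq.1⟩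
    have hsp : Q ⤳ p := (PrimeSpectrum.le_iff_specializes Q p).1 hqp
    have hQU : Q ∈ U' := hsp.mem_open U'.2 (by rw [hpη]; exact (g η).2)
    have hsp' : (⟨Q, hQU⟩ : (U' : Scheme.{u})) ⤳ g η :=
      U'.ι.isEmbedding.isInducing.specializes_iff.1 (by rw [← hpη]; exact hsp)
    obtain ⟨η', hη', he⟩ := Flat.generalizingMap g hsp'
    have hsub : Z ⊆ closure {η'} := by
      rw [← hη.def]
      exact isClosed_closure.closure_subset_iff.2 (Set.singleton_subset_iff.2 hη'.mem_closure)
    have hZeq : closure {η'} ⊆ Z := hZ.2 isIrreducible_singleton.closure hsub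
    have hηη : η' = η :=
      (hη.specializes (hZeq (subset_closure (Set.mem_singleton η')))).antisymm hη' |>.eq.symm
    have : U'.ι (g η') = Q := by rw [he]; rfl
    rw [hηη, ← hpη] at this
    exact le_of_eq (congrArg PrimeSpectrum.asIdeal this)
  by_cases hfp : f ∈ p.asIdeal
  · have : Z ∩ g ⁻¹' S = Z := Set.inter_eq_left.2 fun z hz => by
      show f ∈ (U'.ι (g z)).asIdeal
      have h1 : η ⤳ z := hη.specializes hz
      have h2 := (PrimeSpectrum.le_iff_specializes p (U'.ι (g z))).2 (by
        rw [hpη]; exact (h1.map g.continuous).map U'.ι.continuous)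
      exact h2 hfp
    rw [this]
    exact hZirr.isPreirreducible.isPreconnected
  let T : Type u := B ⧸ P.asIdeal
  haveI : IsDomain T := Ideal.Quotient.isDomain _
  haveI : Module.Finite A T := inferInstance
  have hker : RingHom.ker (algebraMap A T) = p.asIdeal := by
    rw [show algebraMap A T = (Ideal.Quotient.mk P.asIdeal).comp (algebraMap A B) from rfl, ← RingHom.comap_ker,
      Ideal.mk_ker]
    rfl
  have hT := preconnected_domain f hf hd T (by rw [hker]; exact hc _ hpmin hfp)
  let q₀ : PrimeSpectrum T → Spec (CommRingCat.of B) := PrimeSpectrum.comap (Ideal.Quotient.mk P.asIdeal)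
  have himg : i '' (Z ∩ g ⁻¹' S) = q₀ '' (PrimeSpectrum.zeroLocus ({algebraMap A T f} : Set T) \
      PrimeSpectrum.zeroLocus ((maximalIdeal A).map (algebraMap A T) : Set T)) := by
    ext Q
    constructor
    · rintro ⟨z, ⟨hzZ, hzS⟩, rfl⟩
      have hle : P.asIdeal ≤ (i z).asIdeal :=
        (PrimeSpectrum.le_iff_specializes P (i z)).2 ((hη.specializes hzZ).map i.continuous)
      obtain ⟨x, hx⟩ : i z ∈ Set.range q₀ := by
        show _ ∈ Set.range (PrimeSpectrum.comap (Ideal.Quotient.mk P.asIdeal))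
        rw [range_comap_of_surjective _ _ Ideal.Quotient.mk_surjective, Ideal.mk_ker]
        exact hle
      have hπ : π (i z) = U'.ι (g z) := hw z
      refine ⟨x, ⟨Set.singleton_subset_iff.2 ?_, fun hm => ?_⟩, hx⟩
      · have : f ∈ (π (i z)).asIdeal := by rw [hπ]; exact hzS
        rw [← hx] at this
        exact this
      · have hpun : π (i z) ≠ closedPoint A := by rw [hπ]; exact hU' (g z).2
        refine hpun (PrimeSpectrum.ext ((IsLocalRing.maximalIdeal.isMaximal A).eq_of_le (π (i z)).2.ne_top ?_).symm)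
        rw [← hx]
        exact fun a ha => hm (Ideal.mem_map_of_mem _ ha)
    · rintro ⟨x, ⟨hfx, hmx⟩, rfl⟩
      have hfQ : f ∈ (π (q₀ x)).asIdeal := hfx (Set.mem_singleton _)
      have hne : π (q₀ x) ≠ closedPoint A := fun h => hmx (Ideal.map_le_iff_le_comap.2 fun a ha => by
        have : a ∈ (π (q₀ x)).asIdeal := by rw [h]; exact ha
        exact this)
      obtain ⟨z, hz⟩ := hri (q₀ x) (hmem _ hfQ hne)
      refine ⟨z, ⟨?_, ?_⟩, hz⟩
      · have h1 : P ⤳ i z := by
          rw [hz]
          refine (PrimeSpectrum.le_iff_specializes P _).1 ?_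
          intro b hb
          show Ideal.Quotient.mk P.asIdeal b ∈ x.asIdeal
          rw [Ideal.Quotient.eq_zero_iff_mem.2 hb]
          exact zero_mem _
        rw [← hη.def]
        exact (i.isOpenEmbedding.isInducing.specializes_iff.1 h1).mem_closure
      · show f ∈ (U'.ι (g z)).asIdeal
        rw [← hw, hz]
        exact hfQ
  rw [← i.isOpenEmbedding.isInducing.isPreconnected_image, himg]
  exact hT.image q₀ (PrimeSpectrum.continuous_comap _).continuousOn

end Groth.L27.LefNbhd
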