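import Groth.Agent.L27.Lefschetz.NbhdFormal
import Mathlib.RingTheory.IntegralClosure.IsIntegralClosure.Basic

/-!
# Clopen subsets of a formal punctured cover extend to a neighbourhood, II
-/

set_option autoImplicit false
set_option linter.style.haveILetI false
set_option backward.isDefEq.respectTransparency false
set_option backward.isDefEq.respectTransparency.types false
universe u

open CategoryTheory CategoryTheory.Limits AlgebraicGeometry TopologicalSpace Opposite IsLocalRing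

attribute [local instance] HasDerivedCategory.standard

noncomputable section

namespace Groth.L27.LefNbhd

open Groth.L29.CechSect Groth.L29.Formal Groth.L29.ColimZero Groth.L29.PrincipalColim

variable {A : Type u} [CommRing A] (f : A) {B : Type u} [CommRing B] [Algebra A B]

theorem rep_res' {C₀ : Set (PrimeSpectrum B)} {n : ℕ} {g h : A} (hgh : g ∣ h) (hle : D h ≤ D g)
    {s : sec (D g) (lev f B n)} (hs : Rep f B C₀ n g s) : Rep f B C₀ n h (res hle (lev f B n) s) := by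
  obtain ⟨c, rfl⟩ := hgh
  exact rep_res f hs c hle

theorem exists_family (W C₀ : Set (PrimeSpectrum B)) (𝔞 : Ideal A)
    (hW : ∀ g ∈ 𝔞, ∀ Q : PrimeSpectrum B, algebraMap A B f ∈ Q.asIdeal → algebraMap A B g ∉ Q.asIdeal → Q ∈ W)
    (hC₀ : IsClopen ((Subtype.val : W → PrimeSpectrum B) ⁻¹' C₀)) :
    ∃ y : ∀ n, sec (LocCoh.puncturedOpen A 𝔞) (lev f B n),
      (∀ n, (secMap _ (ModuleCat.ofHom (Formal2.quotPowTrans A (Ideal.span {f}) B n))).hom (y (n + 1)) = y n) ∧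
      ∀ (n : ℕ) (g : A) (_ : g ∈ 𝔞) (hle : D g ≤ LocCoh.puncturedOpen A 𝔞),
        Rep f B C₀ n g (res hle (lev f B n) (y n)) := by
  let U := LocCoh.puncturedOpen A 𝔞
  let ι := {g : A // g ∈ 𝔞}
  have hle : ∀ i : ι, D i.1 ≤ U := fun i r hr h => hr (h i.2)
  have hcov : U ≤ ⨆ i : ι, D i.1 := fun r hr => by
    obtain ⟨g, hg, hgr⟩ := SetLike.not_le_iff_exists.1 (show ¬ 𝔞 ≤ r.asIdeal from hr)
    exact Opens.mem_iSup.2 ⟨⟨g, hg⟩, hgr⟩
  have hex : ∀ (n : ℕ) (i : ι), ∃ s, Rep f B C₀ n i.1 s := fun n i => rep_exists f W (hW i.1 i.2) hC₀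
  choose x hx using hex
  have hc : ∀ n, TopCat.Presheaf.IsCompatible (modulesSpecToSheaf.obj (tilde (R := CommRingCat.of A) (lev f B n))).obj
      (fun i : ι => D i.1) (x n) := by
    intro n i j
    change res inf_le_left _ (x n i) = res inf_le_right _ (x n j)
    have key : ∀ {O : (Spec (CommRingCat.of A)).Opens} (a : O ≤ D i.1) (b : O ≤ D j.1),
        O = D (i.1 * j.1) → res a _ (x n i) = res b (lev f B n) (x n j) := by
      intro O a b hO
      subst hO
      exact rep_unique f (rep_res' f (dvd_mul_right _ _) a (hx n i)) (rep_res' f (dvd_mul_left _ _) b (hx n j))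
    exact key inf_le_left inf_le_right (PrimeSpectrum.basicOpen_mul _ _).symm
  choose y hy using fun n => ((modulesSpecToSheaf.obj (tilde (R := CommRingCat.of A) (lev f B n))).existsUnique_gluing'
    (fun i : ι => D i.1) U (fun i => homOfLE (hle i)) hcov (x n) (hc n)).exists
  refine ⟨y, fun n => ?_, fun n g hg hle' => ?_⟩
  · refine (modulesSpecToSheaf.obj (tilde (R := CommRingCat.of A) (lev f B n))).eq_of_locally_eq'
      (fun i : ι => D i.1) U (fun i => homOfLE (hle i)) hcov _ _ fun i => ?_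
    refine rep_unique f (C₀ := C₀) ?_ ?_
    · show Rep f B C₀ n i.1 (res (hle i) _ _)
      rw [secMap_res]
      refine rep_trans f ?_
      rw [show res (hle i) (lev f B (n + 1)) (y (n + 1)) = x (n + 1) i from hy (n + 1) i]
      exact hx (n + 1) i
    · show Rep f B C₀ n i.1 (res (hle i) _ _)
      rw [show res (hle i) (lev f B n) (y n) = x n i from hy n i]
      exact hx n i
  · rw [show res hle' (lev f B n) (y n) = x n ⟨g, hg⟩ from hy n ⟨g, hg⟩]
    exact hx n ⟨g, hg⟩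

/-- `(g, b, k, a)` describes the extension of the clopen on `a` and `g` invertible. -/
def Datum {V : (Spec (CommRingCat.of A)).Opens} (s : sec V (ModuleCat.of A B)) (C₀ : Set (PrimeSpectrum B))
    (g : A) (b : B) (k : ℕ) (a : B) : Prop :=
  (∃ hle : D g ≤ V, g ^ k • res hle (ModuleCat.of A B) s = (tilde.toOpen (R := CommRingCat.of A) (ModuleCat.of A B) (D g)).hom b) ∧
    Cuts f C₀ g b ∧
    (∃ l : ℕ, a * (algebraMap A B g ^ l * (b * b - algebraMap A B g ^ k * b)) = 0) ∧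
    ∀ Q : PrimeSpectrum B, algebraMap A B f ∈ Q.asIdeal → algebraMap A B g ∉ Q.asIdeal → a ∉ Q.asIdeal

variable [IsNoetherianRing A] [Module.Finite A B]

theorem exists_datum {𝔞 : Ideal A} {C₀ : Set (PrimeSpectrum B)}
    {y : ∀ n, sec (LocCoh.puncturedOpen A 𝔞) (lev f B n)}
    (hy : ∀ (n : ℕ) (g : A) (_ : g ∈ 𝔞) (hle : D g ≤ LocCoh.puncturedOpen A 𝔞),
        Rep f B C₀ n g (res hle (lev f B n) (y n)))
    {V : (Spec (CommRingCat.of A)).Opens} (hV : V ≤ LocCoh.puncturedOpen A 𝔞) (s : sec V (ModuleCat.of A B))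
    (hs : ∀ n, res hV (lev f B n) (y n) = (secMap V (ModuleCat.ofHom (Formal2.quotPowπ A (Ideal.span {f}) B n))).hom s)
    (r : PrimeSpectrum A) (hr : r ∈ V) :
    ∃ g b k a, g ∉ r.asIdeal ∧ Datum f s C₀ g b k a := by
  obtain ⟨_, ⟨g₀, rfl⟩, hrg, hgV⟩ := (PrimeSpectrum.isTopologicalBasis_basic_opens (R := A)).exists_subset_of_mem_open
    (u := {p : PrimeSpectrum A | p ∈ V}) hr V.isOpen
  obtain ⟨g₁, hg₁, hg₁r⟩ := SetLike.not_le_iff_exists.1 (show ¬ 𝔞 ≤ r.asIdeal from hV hr)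
  let g := g₀ * g₁
  have hg : g ∈ 𝔞 := Ideal.mul_mem_left _ _ hg₁
  have hgr : g ∉ r.asIdeal := fun h => (r.2.mem_or_mem h).elim hrg hg₁r
  have hle : D g ≤ V := (PrimeSpectrum.basicOpen_mul_le_left g₀ g₁).trans hgV
  obtain ⟨k, b, hb⟩ := exists_toOpen g (ModuleCat.of A B) (res hle (ModuleCat.of A B) s)
  have hlev : ∀ n, ∃ b' k', Cuts f C₀ g b' ∧ Idem f n g b' k' ∧
      ∃ l : ℕ, ∃ c : B, algebraMap A B g ^ l * (algebraMap A B g ^ k' * b - algebraMap A B g ^ k * b') =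
        f ^ (n + 1) • c := fun n => by
    obtain ⟨b', k', hb', hcut, hid⟩ := hy n g hg (hle.trans hV)
    refine ⟨b', k', hcut, hid, ?_⟩
    rw [← res_res hV hle, hs n, secMap_res] at hb'
    have h1 : (tilde.toOpen (R := CommRingCat.of A) (lev f B n) (D g)).hom (Formal2.quotPowπ A (Ideal.span {f}) B n (g ^ k' • b)) =
        (tilde.toOpen (R := CommRingCat.of A) (lev f B n) (D g)).hom (Formal2.quotPowπ A (Ideal.span {f}) B n (g ^ k • b')) := by
      rw [map_smul, map_smul, map_smul, map_smul, ← hb', show Formal2.quotPowπ A (Ideal.span {f}) B n b =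
        (ModuleCat.ofHom (Formal2.quotPowπ A (Ideal.span {f}) B n)).hom b from rfl, ← secMap_toOpen, ← hb, map_smul,
        smul_comm]
    rw [← sub_eq_zero, ← map_sub, ← map_sub] at h1
    obtain ⟨l, hl⟩ := exists_pow_toOpen g _ h1
    rw [← map_smul] at hl
    obtain ⟨c, hc⟩ := (lev_eq_iff f B n).1 (hl.trans (map_zero _).symm)
    refine ⟨l, c, ?_⟩
    rw [sub_zero] at hc
    rw [← hc, Algebra.smul_def, Algebra.smul_def, Algebra.smul_def, map_pow, map_pow, map_pow]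
  have hcut : Cuts f C₀ g b := fun Q hf hgQ => by
    obtain ⟨b', k', hcut', -, l, c, hc⟩ := hlev 0
    rw [← hcut' Q hf hgQ, not_iff_not]
    have h1 : algebraMap A B g ^ k' * b - algebraMap A B g ^ k * b' ∈ Q.asIdeal := by
      refine (Q.2.mem_or_mem (show algebraMap A B g ^ l * _ ∈ Q.asIdeal from ?_)).resolve_left
        fun h => hgQ (Q.2.mem_of_pow_mem l h)
      rw [hc, zero_add, pow_one, Algebra.smul_def]
      exact Ideal.mul_mem_right _ _ hf
    constructor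
    · exact fun h => (Q.2.mem_or_mem ((Submodule.sub_mem_iff_right _ (Ideal.mul_mem_left _ _ h)).1 h1)).resolve_left
        fun h => hgQ (Q.2.mem_of_pow_mem k h)
    · exact fun h => (Q.2.mem_or_mem ((Submodule.sub_mem_iff_left _ (Ideal.mul_mem_left _ _ h)).1 h1)).resolve_left
        fun h => hgQ (Q.2.mem_of_pow_mem k' h)
  let G := algebraMap A B g
  let L := Localization.Away G
  let ι := algebraMap B L
  let ε := b * b - G ^ k * b
  let I : Ideal L := Ideal.span {ι (algebraMap A B f)}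
  haveI : IsNoetherianRing B := IsNoetherianRing.of_finite A B
  haveI : IsNoetherianRing L := IsLocalization.isNoetherianRing (Submonoid.powers G) L inferInstance
  have hG : IsUnit (ι G) := IsLocalization.Away.algebraMap_isUnit G
  have hmem : ι ε ∈ (⨅ i : ℕ, I ^ i • (⊤ : Submodule L L)) := by
    refine (Submodule.mem_iInf _).2 fun i => ?_
    rw [smul_eq_mul, Ideal.mul_top]
    cases i with
    | zero => simp
    | succ n =>
      obtain ⟨b', k', -, ⟨l', c', hc'⟩, l, c, hc⟩ := hlev n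
      rw [Ideal.span_singleton_pow, ← map_pow]
      have hq : ι (G ^ (l' + l) * G ^ (2 * k') * ε) ∈ Ideal.span {ι (algebraMap A B f ^ (n + 1))} := by
        rw [Ideal.mem_span_singleton']
        refine ⟨ι (G ^ l' * c * (G ^ k' * b + G ^ k * b' - G ^ (k + k')) + G ^ l * G ^ (2 * k) * c'), ?_⟩
        rw [← map_mul]
        refine congrArg ι ?_
        rw [Algebra.smul_def, map_pow] at hc hc'
        linear_combination -(G ^ l' * (G ^ k' * b + G ^ k * b' - G ^ (k + k'))) * hc - (G ^ l * G ^ (2 * k)) * hc'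
      obtain ⟨v, hv⟩ := ((hG.pow (l' + l)).mul (hG.pow (2 * k'))).exists_right_inv
      have := Ideal.mul_mem_left _ v hq
      have e : v * ι (G ^ (l' + l) * G ^ (2 * k') * ε) = ι ε := by
        rw [map_mul ι _ ε, map_mul ι, map_pow ι, map_pow ι]
        linear_combination (ι ε) * hv
      rw [e] at this
      exact this
  obtain ⟨⟨ρ, hρ⟩, hρε⟩ := (Ideal.mem_iInf_smul_pow_eq_bot_iff I (ι ε)).1 hmem
  obtain ⟨t, rfl⟩ := Ideal.mem_span_singleton'.1 hρ
  obtain ⟨⟨c, _, ⟨m, rfl⟩⟩, hc⟩ := IsLocalization.surj (Submonoid.powers G) t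
  have h0 : ι ((G ^ m - algebraMap A B f * c) * ε) = 0 := by
    simp only [smul_eq_mul] at hρε
    rw [map_mul, map_sub, map_mul, ← hc]
    linear_combination -(ι (G ^ m)) * hρε
  obtain ⟨⟨_, ⟨l, rfl⟩⟩, hl⟩ := (IsLocalization.map_eq_zero_iff (Submonoid.powers G) L _).1 h0
  refine ⟨g, b, k, G ^ m - algebraMap A B f * c, hgr, ⟨hle, hb⟩, hcut, ⟨l, ?_⟩, fun Q hf hgQ h => ?_⟩
  · rw [← hl]; ring
  · exact hgQ (Q.2.mem_of_pow_mem m ((Submodule.sub_mem_iff_left _ (Ideal.mul_mem_right _ _ hf)).1 h))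

omit [IsNoetherianRing A] [Module.Finite A B] in
theorem datum_compat {V : (Spec (CommRingCat.of A)).Opens} {s : sec V (ModuleCat.of A B)} {C₀ : Set (PrimeSpectrum B)}
    {g g' : A} {b b' a a' : B} {k k' : ℕ} (h : Datum f s C₀ g b k a) (h' : Datum f s C₀ g' b' k' a')
    (Q : PrimeSpectrum B) (hg : algebraMap A B g ∉ Q.asIdeal) (hg' : algebraMap A B g' ∉ Q.asIdeal) :
    b ∈ Q.asIdeal ↔ b' ∈ Q.asIdeal := by
  obtain ⟨⟨hle, hb⟩, -⟩ := h
  obtain ⟨⟨hle', hb'⟩, -⟩ := h'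
  have h₁ : D (g * g') ≤ D g := PrimeSpectrum.basicOpen_mul_le_left _ _
  have h₂ : D (g * g') ≤ D g' := PrimeSpectrum.basicOpen_mul_le_right _ _
  have e₁ := congrArg (res h₁ _) hb
  have e₂ := congrArg (res h₂ _) hb'
  rw [map_smul, res_res, res_toOpen] at e₁ e₂
  have h0 : (tilde.toOpen (R := CommRingCat.of A) (ModuleCat.of A B) (D (g * g'))).hom (g' ^ k' • b - g ^ k • b') = 0 := by
    rw [map_sub, map_smul, map_smul, ← e₁, ← e₂, smul_comm, sub_self]
  obtain ⟨l, hl⟩ := exists_pow_toOpen _ _ h0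
  rw [Algebra.smul_def, Algebra.smul_def, Algebra.smul_def, map_pow, map_pow, map_pow, map_mul] at hl
  have h1 : algebraMap A B g' ^ k' * b - algebraMap A B g ^ k * b' ∈ Q.asIdeal := by
    refine (Q.2.mem_or_mem (show (algebraMap A B g * algebraMap A B g') ^ l * _ ∈ Q.asIdeal from ?_)).resolve_left
      fun h => (Q.2.mem_or_mem (Q.2.mem_of_pow_mem l h)).elim hg hg'
    rw [hl]
    exact zero_mem _
  constructor
  · exact fun h => (Q.2.mem_or_mem ((Submodule.sub_mem_iff_right _ (Ideal.mul_mem_left _ _ h)).1 h1)).resolve_left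
      fun h => hg (Q.2.mem_of_pow_mem k h)
  · exact fun h => (Q.2.mem_or_mem ((Submodule.sub_mem_iff_left _ (Ideal.mul_mem_left _ _ h)).1 h1)).resolve_left
      fun h => hg' (Q.2.mem_of_pow_mem k' h)

theorem exists_clopen_ext [IsLocalRing A] [IsAdicComplete (Ideal.span {f}) A] (hf : f ∈ maximalIdeal A)
    (hreg : IsSMulRegular B f)
    (hfin : Module.Finite A (LocCoh.H (maximalIdeal A) 1 (B ⧸ (Ideal.span {f} • (⊤ : Submodule A B)))))
    (C₀ : Set (PrimeSpectrum B))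
    (hC₀ : IsClopen ((Subtype.val : {Q : PrimeSpectrum B | algebraMap A B f ∈ Q.asIdeal ∧
      ¬ maximalIdeal A ≤ Q.asIdeal.comap (algebraMap A B)} → PrimeSpectrum B) ⁻¹' C₀)) :
    ∃ O : Set (PrimeSpectrum A), IsOpen O ∧ (∀ p : PrimeSpectrum A, f ∈ p.asIdeal → p ≠ closedPoint A → p ∈ O) ∧
      ∃ C C' : Set (PrimeSpectrum B), IsOpen C ∧ IsOpen C' ∧
        (∀ Q, PrimeSpectrum.comap (algebraMap A B) Q ∈ O → (Q ∈ C' ↔ Q ∉ C)) ∧
        ∀ Q, PrimeSpectrum.comap (algebraMap A B) Q ∈ O → algebraMap A B f ∈ Q.asIdeal → (Q ∈ C ↔ Q ∈ C₀) := by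
  let U := LocCoh.puncturedOpen A (maximalIdeal A)
  obtain ⟨y, hyc, hy⟩ := exists_family f _ C₀ (maximalIdeal A)
    (fun g hg Q hfQ hgQ => show algebraMap A B f ∈ Q.asIdeal ∧ ¬ maximalIdeal A ≤ Q.asIdeal.comap (algebraMap A B) from
      ⟨hfQ, fun h => hgQ (h hg)⟩) hC₀
  obtain ⟨-, hsurj⟩ := Groth.Agent.S0802.result A (maximalIdeal A) f hf B hreg hfin
  obtain ⟨V, hV, x, hx⟩ := hsurj
    (fun n => (h0 U (lev f B n)).symm (y n)) (fun n => (h0 U (lev f B n)).injective (by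
      rw [h0_map, AddEquiv.apply_symm_apply, AddEquiv.apply_symm_apply]; exact hyc n))
  let s := h0 V (ModuleCat.of A B) x
  have hs : ∀ n, res hV.1 (lev f B n) (y n) =
      (secMap V (ModuleCat.ofHom (Formal2.quotPowπ A (Ideal.span {f}) B n))).hom s := fun n => by
    have := congrArg (h0 V (lev f B n)) (hx n)
    rwa [h0_res, h0_map, AddEquiv.apply_symm_apply] at this
  let C : Set (PrimeSpectrum B) := {Q | ∃ g b k a, Datum f s C₀ g b k a ∧
    algebraMap A B g ∉ Q.asIdeal ∧ a ∉ Q.asIdeal ∧ b ∉ Q.asIdeal}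
  let C' : Set (PrimeSpectrum B) := {Q | ∃ g b k a, Datum f s C₀ g b k a ∧
    algebraMap A B g ∉ Q.asIdeal ∧ a ∉ Q.asIdeal ∧ algebraMap A B g ^ k - b ∉ Q.asIdeal}
  let good : Set (PrimeSpectrum B) := {Q | ∃ g b k a, Datum f s C₀ g b k a ∧
    algebraMap A B g ∉ Q.asIdeal ∧ a ∉ Q.asIdeal}
  have hne : ∀ c : B, IsOpen {Q : PrimeSpectrum B | c ∉ Q.asIdeal} := fun c => (PrimeSpectrum.basicOpen c).2
  have hopen : IsOpen good := isOpen_iff_forall_mem_open.2 fun Q ⟨g, b, k, a, hd, hg, ha⟩ =>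
    ⟨{Q | algebraMap A B g ∉ Q.asIdeal} ∩ {Q | a ∉ Q.asIdeal}, fun Q' hQ' => ⟨g, b, k, a, hd, hQ'.1, hQ'.2⟩,
      (hne _).inter (hne _), hg, ha⟩
  haveI : Algebra.IsIntegral A B := Algebra.IsIntegral.of_finite A B
  have hcl := PrimeSpectrum.isClosedMap_comap_of_isIntegral (algebraMap A B)
    (algebraMap_isIntegral_iff.2 inferInstance) _ hopen.isClosed_compl
  refine ⟨(PrimeSpectrum.comap (algebraMap A B) '' goodᶜ)ᶜ, hcl.isOpen_compl, fun p hfp hp ⟨Q, hQ, hQp⟩ => ?_,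
    C, C', ?_, ?_, fun Q hQ => ?_, fun Q hQ hfQ => ?_⟩
  · have hpU : p ∈ U := fun h => hp (PrimeSpectrum.ext
      ((IsLocalRing.maximalIdeal.isMaximal A).eq_of_le p.2.ne_top h).symm)
    obtain ⟨g, b, k, a, hgr, hd⟩ := exists_datum f hy hV.1 s hs p
      (hV.2 p hpU ((Ideal.span_singleton_le_iff_mem _).2 hfp))
    have hg : algebraMap A B g ∉ Q.asIdeal := fun h => hgr (by rw [← hQp]; exact h)
    have hfQ : algebraMap A B f ∈ Q.asIdeal := by
      have : f ∈ (PrimeSpectrum.comap (algebraMap A B) Q).asIdeal := by rw [hQp]; exact hfp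
      exact this
    exact hQ ⟨g, b, k, a, hd, hg, hd.2.2.2 Q hfQ hg⟩
  · exact isOpen_iff_forall_mem_open.2 fun Q ⟨g, b, k, a, hd, hg, ha, hb⟩ =>
      ⟨{Q | algebraMap A B g ∉ Q.asIdeal} ∩ {Q | a ∉ Q.asIdeal} ∩ {Q | b ∉ Q.asIdeal},
        fun Q' hQ' => ⟨g, b, k, a, hd, hQ'.1.1, hQ'.1.2, hQ'.2⟩, ((hne _).inter (hne _)).inter (hne _), ⟨hg, ha⟩, hb⟩
  · exact isOpen_iff_forall_mem_open.2 fun Q ⟨g, b, k, a, hd, hg, ha, hb⟩ =>
      ⟨{Q | algebraMap A B g ∉ Q.asIdeal} ∩ {Q | a ∉ Q.asIdeal} ∩ {Q | algebraMap A B g ^ k - b ∉ Q.asIdeal},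
        fun Q' hQ' => ⟨g, b, k, a, hd, hQ'.1.1, hQ'.1.2, hQ'.2⟩, ((hne _).inter (hne _)).inter (hne _), ⟨hg, ha⟩, hb⟩
  · obtain ⟨g, b, k, a, hd, hg, ha⟩ : Q ∈ good := by
      by_contra h
      exact hQ ⟨Q, h, rfl⟩
    constructor
    · rintro ⟨g', b', k', a', hd', hg', ha', hb'⟩ ⟨g'', b'', k'', a'', hd'', hg'', ha'', hb''⟩
      obtain ⟨l, hl⟩ := hd'.2.2.1
      have h1 : b' * b' - algebraMap A B g' ^ k' * b' ∈ Q.asIdeal :=
        (Q.2.mem_or_mem ((Q.2.mem_or_mem (hl ▸ zero_mem Q.asIdeal)).resolve_left ha')).resolve_left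
          fun h => hg' (Q.2.mem_of_pow_mem l h)
      rw [show b' * b' - algebraMap A B g' ^ k' * b' = -(b' * (algebraMap A B g' ^ k' - b')) by ring, neg_mem_iff] at h1
      exact hb'' ((datum_compat f hd' hd'' Q hg' hg'').1 ((Q.2.mem_or_mem h1).resolve_right hb'))
    · intro hC
      refine ⟨g, b, k, a, hd, hg, ha, fun h => hC ⟨g, b, k, a, hd, hg, ha, fun hb => hg (Q.2.mem_of_pow_mem k ?_)⟩⟩
      have := add_mem h hb
      rwa [sub_add_cancel] at this
  · obtain ⟨g, b, k, a, hd, hg, ha⟩ : Q ∈ good := by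
      by_contra h
      exact hQ ⟨Q, h, rfl⟩
    rw [← hd.2.1 Q hfQ hg]
    exact ⟨fun ⟨g', b', k', a', hd', hg', _, hb'⟩ h => hb' ((datum_compat f hd hd' Q hg hg').1 h),
      fun h => ⟨g, b, k, a, hd, hg, ha, h⟩⟩

end Groth.L27.LefNbhd
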