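import Groth.Agent.L06.FEtLef.Full
import Groth.Agent.L27.SGA1.FEtFaithful
import Groth.Prelude.Def_FEt
import Mathlib.AlgebraicGeometry.Morphisms.FlatMono

/-!
# Restriction from the system of open neighbourhoods of a closed subscheme
-/

set_option autoImplicit false
set_option linter.style.haveILetI false
set_option backward.isDefEq.respectTransparency false
universe u

open CategoryTheory CategoryTheory.Limits AlgebraicGeometry TopologicalSpace Opposite

noncomputable section

namespace Groth.L27.LefNbhd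

variable {X Y : Scheme.{u}} {U' : X.Opens} (i : Y ⟶ (U' : Scheme.{u})) [IsClosedImmersion i]

theorem exists_lift (O : (U' : Scheme.{u}).Opens) (hO : Set.range i ⊆ (O : Set (U' : Scheme.{u}))) :
    ∃ (h : U'.ι ''ᵁ O ≤ U') (u'' : Y ⟶ (↑(U'.ι ''ᵁ O) : Scheme.{u})),
      u'' ≫ X.homOfLE h = i ∧ ∀ z, X.homOfLE h z ∈ O := by
  have h : U'.ι ''ᵁ O ≤ U' := by
    rintro _ ⟨z, _, rfl⟩
    exact z.2
  have hmem : ∀ z, X.homOfLE h z ∈ O := by
    intro z
    obtain ⟨w, hw, hwz⟩ := z.2
    have h1 : U'.ι (X.homOfLE h z) = U'.ι w := by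
      rw [← Scheme.Hom.comp_apply, Scheme.homOfLE_ι]; exact hwz.symm
    rw [U'.ι.isOpenEmbedding.injective h1]; exact hw
  have hr : Set.range i ⊆ Set.range (X.homOfLE h) := fun z hz => by
    refine ⟨⟨U'.ι z, z, hO hz, rfl⟩, U'.ι.isOpenEmbedding.injective ?_⟩
    rw [← Scheme.Hom.comp_apply, Scheme.homOfLE_ι]; rfl
  exact ⟨h, IsOpenImmersion.lift (X.homOfLE h) i hr, IsOpenImmersion.lift_fac _ _ _, hmem⟩

theorem faithful_nbhd {V W : FEt.Cat (U' : Scheme.{u})} (φ ψ : V ⟶ W)
    (hφ : (FEt.restrict i).map φ = (FEt.restrict i).map ψ) :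
    ∃ (U'' : X.Opens) (h : U'' ≤ U') (u'' : Y ⟶ (U'' : Scheme.{u})), u'' ≫ X.homOfLE h = i ∧
      (FEt.restrict (X.homOfLE h)).map φ = (FEt.restrict (X.homOfLE h)).map ψ := by
  haveI : IsFinite V.hom := V.prop.1
  haveI : AlgebraicGeometry.Etale V.hom := V.prop.2
  haveI : IsFinite W.hom := W.prop.1
  haveI : AlgebraicGeometry.Etale W.hom := W.prop.2
  let e := pullback.lift (f := W.hom) (g := W.hom) φ.left ψ.left
    (by rw [MorphismProperty.Over.w φ, MorphismProperty.Over.w ψ])
  let s := pullback.snd (pullback.diagonal W.hom) e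
  haveI : IsClosedImmersion (pullback.diagonal W.hom) := IsSeparated.isClosedImmersion_diagonal
  haveI : IsOpenImmersion (pullback.diagonal W.hom) := inferInstance
  haveI : IsOpenImmersion s := inferInstance
  haveI : IsClosedImmersion s := inferInstance
  have hs : s ≫ φ.left = s ≫ ψ.left := by
    have c := pullback.condition (f := pullback.diagonal W.hom) (g := e)
    have c1 := congrArg (· ≫ pullback.fst W.hom W.hom) c
    have c2 := congrArg (· ≫ pullback.snd W.hom W.hom) c
    simp only [e, Category.assoc, pullback.diagonal_fst, pullback.diagonal_snd, Category.comp_id,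
      pullback.lift_fst, pullback.lift_snd] at c1 c2
    exact c1.symm.trans c2
  let C : Set V.left := Set.range s
  have hC : IsClopen C := ⟨s.isClosedEmbedding.isClosed_range, s.isOpenEmbedding.isOpen_range⟩
  have hj := Groth.L27.SGA1Conn.range_subset_of_map_eq i hφ
  have hsub : V.hom ⁻¹' Set.range i ⊆ C := by
    intro v hv
    obtain ⟨t, rfl⟩ : v ∈ Set.range (pullback.fst V.hom i) := by
      rw [Scheme.Pullback.range_fst]; exact hv
    let l : pullback V.hom i ⟶ pullback (pullback.diagonal W.hom) e :=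
      pullback.lift (pullback.fst V.hom i ≫ φ.left) (pullback.fst V.hom i) (by
        apply pullback.hom_ext
        · simp only [e, Category.assoc, pullback.diagonal_fst, Category.comp_id, pullback.lift_fst]
        · simp only [e, Category.assoc, pullback.diagonal_snd, Category.comp_id, pullback.lift_snd]
          exact hj)
    exact ⟨l t, (Scheme.Hom.comp_apply l s t).symm.trans
      (congrArg (fun m : pullback V.hom i ⟶ V.left => m t) (pullback.lift_snd _ _ _))⟩
  let O : (U' : Scheme.{u}).Opens := ⟨(V.hom '' Cᶜ)ᶜ, (V.hom.isClosedMap _ hC.compl.isClosed).isOpen_compl⟩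
  obtain ⟨h, u'', hu, hmem⟩ := exists_lift i O fun z hz => by
    rintro ⟨v, hv, rfl⟩
    exact hv (hsub hz)
  refine ⟨_, h, u'', hu, ?_⟩
  let O' : (V.left).Opens := V.hom ⁻¹ᵁ O
  -- on the preimage of the neighbourhood the two morphisms agree
  have hle : ((O' : Set V.left)) ⊆ C := fun v hv => by_contra fun hvC => hv ⟨v, hvC, rfl⟩
  have heq : O'.ι ≫ φ.left = O'.ι ≫ ψ.left := by
    have hre : Set.range O'.ι ⊆ Set.range s := by rw [Scheme.Opens.range_ι]; exact hle
    rw [← IsOpenImmersion.lift_fac s O'.ι hre, Category.assoc, Category.assoc, hs]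
  refine MorphismProperty.Over.Hom.ext (pullback.hom_ext ?_ ?_)
  · refine (Groth.L27.SGA1Conn.restrict_map_fst _ φ).trans (Eq.trans ?_ (Groth.L27.SGA1Conn.restrict_map_fst _ ψ).symm)
    have hr' : Set.range (pullback.fst V.hom (X.homOfLE h)) ⊆ Set.range O'.ι := by
      rw [Scheme.Opens.range_ι]
      rintro _ ⟨z, rfl⟩
      show V.hom (pullback.fst V.hom (X.homOfLE h) z) ∈ O
      rw [← Scheme.Hom.comp_apply, pullback.condition, Scheme.Hom.comp_apply]
      exact hmem _
    rw [← IsOpenImmersion.lift_fac O'.ι (pullback.fst V.hom (X.homOfLE h)) hr', Category.assoc, Category.assoc, heq]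
  · exact (MorphismProperty.Over.w ((FEt.restrict (X.homOfLE h)).map φ)).trans (MorphismProperty.Over.w ((FEt.restrict (X.homOfLE h)).map ψ)).symm

theorem mono_restrict {P V : Scheme.{u}} (p : P ⟶ V) (N : V.Opens) [IsOpenImmersion (pullback.diagonal p)]
    (h : ∀ z : ↥(pullback p p), p (pullback.fst p p z) ∈ N → z ∈ Set.range (pullback.diagonal p)) :
    Mono (p ∣_ N) := by
  refine ⟨fun {T} a b hab => (cancel_mono (p ⁻¹ᵁ N).ι).1 ?_⟩
  have hp : (a ≫ (p ⁻¹ᵁ N).ι) ≫ p = (b ≫ (p ⁻¹ᵁ N).ι) ≫ p := by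
    rw [Category.assoc, Category.assoc, ← morphismRestrict_ι, reassoc_of% hab]
  let e := pullback.lift (f := p) (g := p) _ _ hp
  have hre : Set.range e ⊆ Set.range (pullback.diagonal p) := by
    rintro _ ⟨t, rfl⟩
    refine h _ ?_
    rw [← Scheme.Hom.comp_apply, ← Scheme.Hom.comp_apply, pullback.lift_fst_assoc, Scheme.Hom.comp_apply, Scheme.Hom.comp_apply]
    exact (a t).2
  have hd : IsOpenImmersion.lift (pullback.diagonal p) e hre ≫ pullback.diagonal p = e :=
    IsOpenImmersion.lift_fac _ _ _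
  have h1 := congrArg (· ≫ pullback.fst p p) hd
  have h2 := congrArg (· ≫ pullback.snd p p) hd
  simp only [e, Category.assoc, pullback.diagonal_fst, pullback.diagonal_snd, Category.comp_id,
    pullback.lift_fst, pullback.lift_snd] at h1 h2
  exact h1.symm.trans h2

/-- Morphisms over a closed subscheme extend to a neighbourhood when clopens do. -/
theorem full_nbhd
    (hext : ∀ {E : Scheme.{u}} (g : E ⟶ (U' : Scheme.{u})), IsFinite g → AlgebraicGeometry.Etale g → ∀ C₀ : Set E,
      IsClopen ((Subtype.val : (g ⁻¹' Set.range i) → E) ⁻¹' C₀) →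
        ∃ O : (U' : Scheme.{u}).Opens, Set.range i ⊆ (O : Set (U' : Scheme.{u})) ∧ ∃ C : Set E,
          IsClopen ((Subtype.val : (g ⁻¹' (O : Set (U' : Scheme.{u}))) → E) ⁻¹' C) ∧
          ∀ z, g z ∈ Set.range i → (z ∈ C ↔ z ∈ C₀))
    {V W : FEt.Cat (U' : Scheme.{u})} (φ₀ : (FEt.restrict i).obj V ⟶ (FEt.restrict i).obj W) :
    ∃ (U'' : X.Opens) (h : U'' ≤ U') (u'' : Y ⟶ (U'' : Scheme.{u})) (hu : u'' ≫ X.homOfLE h = i)
      (φ : (FEt.restrict (X.homOfLE h)).obj V ⟶ (FEt.restrict (X.homOfLE h)).obj W),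
      (FEt.restrict u'').map φ =
        (MorphismProperty.Over.pullbackComp u'' (X.homOfLE h) i hu.symm).inv.app V ≫ φ₀ ≫
          (MorphismProperty.Over.pullbackComp u'' (X.homOfLE h) i hu.symm).hom.app W := by
  haveI : IsFinite V.hom := V.prop.1
  haveI : AlgebraicGeometry.Etale V.hom := V.prop.2
  haveI : IsFinite W.hom := W.prop.1
  haveI : AlgebraicGeometry.Etale W.hom := W.prop.2
  let c : pullback V.hom i ⟶ pullback W.hom i := φ₀.left
  have hc : c ≫ pullback.snd W.hom i = pullback.snd V.hom i := MorphismProperty.Over.w φ₀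
  let fV : pullback V.hom i ⟶ V.left := pullback.fst V.hom i
  let γ : pullback V.hom i ⟶ pullback V.hom W.hom := pullback.lift fV (c ≫ pullback.fst W.hom i) (by
    rw [Category.assoc, pullback.condition, pullback.condition, reassoc_of% hc])
  have hγ1 : γ ≫ pullback.fst V.hom W.hom = fV := pullback.lift_fst _ _ _
  have hγ2 : γ ≫ pullback.snd V.hom W.hom = c ≫ pullback.fst W.hom i := pullback.lift_snd _ _ _
  haveI : IsClosedImmersion fV := MorphismProperty.pullback_fst _ _ inferInstance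
  haveI : IsClosedImmersion (γ ≫ pullback.fst V.hom W.hom) := hγ1.symm ▸ inferInstance
  haveI : IsClosedImmersion γ := IsClosedImmersion.of_comp γ (pullback.fst V.hom W.hom)
  let g : pullback V.hom W.hom ⟶ (U' : Scheme.{u}) := pullback.fst V.hom W.hom ≫ V.hom
  haveI : IsFinite g := inferInstance
  haveI : AlgebraicGeometry.Etale g := inferInstance
  let k : pullback g i ⟶ pullback V.hom W.hom := pullback.fst g i
  let σ : pullback V.hom i ⟶ pullback g i := pullback.lift γ (pullback.snd V.hom i) (by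
    show γ ≫ pullback.fst V.hom W.hom ≫ V.hom = _
    rw [reassoc_of% hγ1]
    exact pullback.condition)
  have hσk : σ ≫ k = γ := pullback.lift_fst _ _ _
  haveI : IsClosedImmersion k := MorphismProperty.pullback_fst _ _ inferInstance
  haveI : Mono σ := by
    haveI : Mono (σ ≫ k) := hσk.symm ▸ inferInstance
    exact mono_of_mono σ k
  haveI : AlgebraicGeometry.Etale (σ ≫ pullback.snd g i) := by
    rw [show σ ≫ pullback.snd g i = pullback.snd V.hom i from pullback.lift_snd _ _ _]
    infer_instance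
  haveI : AlgebraicGeometry.Etale σ := Etale.of_comp σ (pullback.snd g i)
  haveI : IsOpenImmersion σ := IsOpenImmersion.of_flat_of_mono σ
  have hrk : Set.range k = g ⁻¹' (Set.range i) := Scheme.Pullback.range_fst g i
  have hclop : IsClopen ((Subtype.val : (g ⁻¹' (Set.range i)) → ↥(pullback V.hom W.hom)) ⁻¹' Set.range γ) := by
    refine ⟨γ.isClosedEmbedding.isClosed_range.preimage continuous_subtype_val, ?_⟩
    obtain ⟨O, hO, hOσ⟩ := k.isEmbedding.isInducing.isOpen_iff.1 σ.isOpenEmbedding.isOpen_range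
    convert hO.preimage (continuous_subtype_val : Continuous (Subtype.val : (g ⁻¹' (Set.range i)) → _)) using 1
    ext ⟨z, hz⟩
    obtain ⟨w, rfl⟩ : z ∈ Set.range k := by rw [hrk]; exact hz
    show k w ∈ Set.range γ ↔ k w ∈ O
    constructor
    · rintro ⟨y, hy⟩
      have : σ y = w := k.isEmbedding.injective (by rw [← Scheme.Hom.comp_apply, hσk, hy])
      exact (Set.ext_iff.1 hOσ w).2 ⟨y, this⟩
    · intro hw
      obtain ⟨y, hy⟩ := (Set.ext_iff.1 hOσ w).1 hw
      exact ⟨y, by rw [← hy, ← Scheme.Hom.comp_apply, hσk]⟩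
  obtain ⟨O, hO, C, hC, hCγ⟩ := hext g inferInstance inferInstance _ hclop
  have hγg : γ ≫ g = pullback.snd V.hom i ≫ i := by
    show γ ≫ pullback.fst V.hom W.hom ≫ V.hom = _
    rw [reassoc_of% hγ1]
    exact pullback.condition
  have hγS : ∀ y, g (γ y) ∈ Set.range i := fun y => ⟨pullback.snd V.hom i y, by
    rw [← Scheme.Hom.comp_apply, ← hγg, Scheme.Hom.comp_apply]⟩
  have hCo : IsOpen (g ⁻¹' (O : Set (U' : Scheme.{u})) ∩ C) := by
    rw [← Subtype.image_preimage_coe]
    exact (O.2.preimage g.continuous).isOpenMap_subtype_val _ hC.isOpen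
  let Cs : (pullback V.hom W.hom).Opens := ⟨_, hCo⟩
  let VO : (V.left).Opens := V.hom ⁻¹ᵁ O
  let GO : (pullback V.hom W.hom).Opens := pullback.fst V.hom W.hom ⁻¹ᵁ VO
  have hCG : Cs ≤ GO := fun z hz => hz.1
  let j : Cs.toScheme ⟶ GO.toScheme := (pullback V.hom W.hom).homOfLE hCG
  haveI : IsClosedImmersion j := by
    refine IsClosedImmersion.of_isPreimmersion j ?_
    have : Set.range j = (Subtype.val : (g ⁻¹' (O : Set (U' : Scheme.{u}))) → _) ⁻¹' C := by
      ext z
      constructor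
      · rintro ⟨w, rfl⟩
        show GO.ι (j w) ∈ C
        rw [← Scheme.Hom.comp_apply, Scheme.homOfLE_ι]
        exact w.2.2
      · intro hz
        refine ⟨⟨z.1, z.2, hz⟩, GO.ι.isOpenEmbedding.injective ?_⟩
        rw [← Scheme.Hom.comp_apply, Scheme.homOfLE_ι]
        rfl
    rw [this]
    exact hC.isClosed
  let p : Cs.toScheme ⟶ VO.toScheme := j ≫ (pullback.fst V.hom W.hom ∣_ VO)
  have hpι : p ≫ VO.ι = Cs.ι ≫ pullback.fst V.hom W.hom := by
    simp only [p, Category.assoc, morphismRestrict_ι]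
    rw [← Category.assoc, Scheme.homOfLE_ι]
  haveI : IsFinite p := inferInstance
  haveI : AlgebraicGeometry.Etale p := inferInstance
  have hrange : Set.range γ ⊆ Set.range Cs.ι := by
    rw [Scheme.Opens.range_ι]
    rintro _ ⟨y, rfl⟩
    exact ⟨hO (hγS y), (hCγ _ (hγS y)).2 ⟨y, rfl⟩⟩
  let γ' := IsOpenImmersion.lift Cs.ι γ hrange
  have hγ' : γ' ≫ Cs.ι = γ := IsOpenImmersion.lift_fac _ _ _
  have hγ'p : γ' ≫ p ≫ VO.ι = fV := by rw [hpι, reassoc_of% hγ', hγ1]
  have hkey : ∀ {K : Type u} [Field K] (pt : Spec (CommRingCat.of K)) (x : Spec (CommRingCat.of K) ⟶ Cs.toScheme),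
      g (Cs.ι (x pt)) ∈ Set.range i → ∃ t, t ≫ γ' = x := by
    intro K _ pt x hx
    obtain ⟨t, ht⟩ := Groth.L06.FEtLef.field_lift γ (x ≫ Cs.ι) pt (by
      rw [Scheme.Hom.comp_apply]
      exact (hCγ _ hx).1 (x pt).2.2)
    exact ⟨t, by rw [← cancel_mono Cs.ι, Category.assoc, hγ', ht]⟩
  haveI : IsClosedImmersion (pullback.diagonal p) := IsSeparated.isClosedImmersion_diagonal
  haveI : IsOpenImmersion (pullback.diagonal p) := inferInstance
  let g₂ : pullback p p ⟶ VO.toScheme := pullback.fst p p ≫ p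
  haveI : IsFinite g₂ := inferInstance
  let bad : Set VO.toScheme := g₂ '' (Set.range (pullback.diagonal p))ᶜ ∪ (Set.range p)ᶜ
  have hbadc : IsClosed bad :=
    (g₂.isClosedMap _ (pullback.diagonal p).isOpenEmbedding.isOpen_range.isClosed_compl).union
      (p.isOpenMap.isOpen_range).isClosed_compl
  have hgood : ∀ v : VO.toScheme, V.hom (VO.ι v) ∈ Set.range i → v ∉ bad := by
    rintro v hv (⟨z, hz, rfl⟩ | hv')
    · refine hz ?_
      let e := (pullback p p).fromSpecResidueField z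
      let pt : Spec ((pullback p p).residueField z) := IsLocalRing.closedPoint _
      have he : e pt = z := Scheme.fromSpecResidueField_apply _ _
      have hgx : ∀ x : Spec ((pullback p p).residueField z) ⟶ Cs.toScheme, x ≫ p = e ≫ pullback.fst p p ≫ p →
          g (Cs.ι (x pt)) ∈ Set.range i := fun x hx => by
        have h1 : g (Cs.ι (x pt)) = V.hom (VO.ι ((x ≫ p) pt)) := by
          show V.hom (pullback.fst V.hom W.hom (Cs.ι (x pt))) = _
          rw [← Scheme.Hom.comp_apply Cs.ι, ← hpι]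
          rfl
        rw [h1, hx]
        have h2 : (e ≫ pullback.fst p p ≫ p) pt = g₂ z := by
          simp only [g₂, Scheme.Hom.comp_apply, he]
        rw [h2]; exact hv
      obtain ⟨t₁, ht₁⟩ := hkey pt (e ≫ pullback.fst p p) (hgx _ (by simp only [Category.assoc]))
      obtain ⟨t₂, ht₂⟩ := hkey pt (e ≫ pullback.snd p p)
        (hgx _ (by simp only [Category.assoc, ← pullback.condition]))
      have ht : t₁ = t₂ := by
        rw [← cancel_mono fV, ← hγ'p, reassoc_of% ht₁, reassoc_of% ht₂, pullback.condition_assoc]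
      have hx : e = (e ≫ pullback.fst p p) ≫ pullback.diagonal p := by
        apply pullback.hom_ext
        · rw [Category.assoc, pullback.diagonal_fst, Category.comp_id]
        · rw [Category.assoc, pullback.diagonal_snd, Category.comp_id, ← ht₁, ht, ht₂]
      exact ⟨(e ≫ pullback.fst p p) pt, by rw [← Scheme.Hom.comp_apply, ← hx, he]⟩
    · refine hv' ?_
      obtain ⟨y, hy⟩ : VO.ι v ∈ Set.range fV := by
        rw [show Set.range fV = V.hom ⁻¹' Set.range i from Scheme.Pullback.range_fst V.hom i]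
        exact hv
      refine ⟨γ' y, VO.ι.isOpenEmbedding.injective ?_⟩
      rw [← hy, ← hγ'p]
      rfl
  -- the neighbourhood
  let VB : (V.left).Opens := VO.ι ''ᵁ ⟨badᶜ, hbadc.isOpen_compl⟩
  have hBo : IsOpen ((O : Set (U' : Scheme.{u})) \ (V.hom '' ((VB : Set V.left)ᶜ))) :=
    O.2.sdiff (V.hom.isClosedMap _ VB.2.isClosed_compl)
  obtain ⟨h, u'', hu, hmem⟩ := exists_lift i ⟨_, hBo⟩ fun x hx => ⟨hO hx, fun ⟨v, hv, hvx⟩ => hv
    ⟨⟨v, show V.hom v ∈ O from hvx ▸ hO hx⟩, hgood _ (show V.hom v ∈ Set.range i from hvx ▸ hx), rfl⟩⟩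
  let N : (VO.toScheme).Opens := ⟨badᶜ, hbadc.isOpen_compl⟩
  let pN := p ∣_ N
  haveI : Mono pN := mono_restrict p N fun z hz => by
    by_contra hzd
    exact hz (Or.inl ⟨z, hzd, rfl⟩)
  haveI : Surjective pN := ⟨fun v => by
    obtain ⟨w, hw⟩ : (v.1 : VO.toScheme) ∈ Set.range p := by
      by_contra hv
      exact v.2 (Or.inr hv)
    refine ⟨⟨w, show p w ∈ N by rw [hw]; exact v.2⟩, N.ι.isOpenEmbedding.injective ?_⟩
    rw [← Scheme.Hom.comp_apply, morphismRestrict_ι]
    exact hw⟩
  haveI : IsIso pN := Flat.isIso_of_surjective_of_mono pN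
  let a : N.toScheme ⟶ W.left := inv pN ≫ (p ⁻¹ᵁ N).ι ≫ Cs.ι ≫ pullback.snd V.hom W.hom
  have ha : a ≫ W.hom = N.ι ≫ VO.ι ≫ V.hom := by
    simp only [a, Category.assoc, ← pullback.condition]
    rw [IsIso.inv_comp_eq, ← reassoc_of% hpι, morphismRestrict_ι_assoc]
  let PV := pullback V.hom (X.homOfLE h)
  have hr : Set.range (pullback.fst V.hom (X.homOfLE h)) ⊆ Set.range (N.ι ≫ VO.ι) := by
    rintro _ ⟨z, rfl⟩
    have hz := hmem (pullback.snd V.hom (X.homOfLE h) z)
    rw [← Scheme.Hom.comp_apply, ← pullback.condition, Scheme.Hom.comp_apply] at hz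
    have hz1 := hz.2
    by_contra hn
    refine hz1 ⟨_, fun hv => hn ?_, rfl⟩
    obtain ⟨w, hw, hwe⟩ := hv
    exact ⟨⟨w, hw⟩, hwe⟩
  let l : PV ⟶ N.toScheme := IsOpenImmersion.lift (N.ι ≫ VO.ι) (pullback.fst V.hom (X.homOfLE h)) hr
  have hl : l ≫ N.ι ≫ VO.ι = pullback.fst V.hom (X.homOfLE h) := IsOpenImmersion.lift_fac _ _ _
  let al : PV ⟶ pullback W.hom (X.homOfLE h) := pullback.lift (l ≫ a) (pullback.snd V.hom (X.homOfLE h))
    (by rw [Category.assoc, ha, reassoc_of% hl, pullback.condition])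
  let φ : (FEt.restrict (X.homOfLE h)).obj V ⟶ (FEt.restrict (X.homOfLE h)).obj W :=
    MorphismProperty.Over.homMk al (pullback.lift_snd _ _ _)
  refine ⟨_, h, u'', hu, φ, ?_⟩
  subst hu
  rw [← Iso.app_inv, Iso.eq_inv_comp]
  have hsnd : ∀ {P Q : FEt.Cat Y} (m m' : P ⟶ Q), m.left ≫ Q.hom = m'.left ≫ Q.hom := fun m m' =>
    (MorphismProperty.Over.w m).trans (MorphismProperty.Over.w m').symm
  refine MorphismProperty.Over.Hom.ext (pullback.hom_ext (pullback.hom_ext ?_ ?_) (hsnd _ _))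
  · let A := ((MorphismProperty.Over.pullbackComp u'' (X.homOfLE h)).hom.app V).left
    show ((A ≫ ((FEt.restrict u'').map φ).left) ≫ pullback.fst _ u'') ≫ pullback.fst W.hom (X.homOfLE h) =
      ((c ≫ ((MorphismProperty.Over.pullbackComp u'' (X.homOfLE h)).hom.app W).left) ≫ pullback.fst _ u'') ≫
        pullback.fst W.hom (X.homOfLE h)
    simp only [Category.assoc]
    rw [reassoc_of% (Groth.L27.SGA1Conn.restrict_map_fst u'' φ)]
    erw [MorphismProperty.Over.pullbackComp_left_fst_fst u'' (X.homOfLE h) W]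
    show A ≫ pullback.fst (pullback.snd V.hom (X.homOfLE h)) u'' ≫ al ≫ pullback.fst _ _ = _
    rw [pullback.lift_fst, ← hγ2, ← hγ']
    have hA : A ≫ pullback.fst (pullback.snd V.hom (X.homOfLE h)) u'' ≫ pullback.fst V.hom (X.homOfLE h) = fV :=
      MorphismProperty.Over.pullbackComp_left_fst_fst u'' (X.homOfLE h) V
    have hfac : ∃ t : pullback V.hom (u'' ≫ X.homOfLE h) ⟶ (p ⁻¹ᵁ N).toScheme, t ≫ (p ⁻¹ᵁ N).ι = γ' := by
      refine ⟨IsOpenImmersion.lift (p ⁻¹ᵁ N).ι γ' ?_, IsOpenImmersion.lift_fac _ _ _⟩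
      rw [Scheme.Opens.range_ι]
      rintro _ ⟨y, rfl⟩
      refine hgood _ ?_
      rw [← Scheme.Hom.comp_apply γ' p, ← Scheme.Hom.comp_apply, Category.assoc, hγ'p]
      refine ⟨pullback.snd V.hom (u'' ≫ X.homOfLE h) y, ?_⟩
      show _ = V.hom (fV y)
      exact (congrArg (fun m : pullback V.hom (u'' ≫ X.homOfLE h) ⟶ (U' : Scheme.{u}) => m y)
        (pullback.condition (f := V.hom) (g := u'' ≫ X.homOfLE h))).symm
    obtain ⟨t, ht⟩ := hfac
    have htl : (A ≫ pullback.fst (pullback.snd V.hom (X.homOfLE h)) u'') ≫ l = t ≫ pN := by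
      rw [← cancel_mono (N.ι ≫ VO.ι)]
      simp only [Category.assoc, hl, morphismRestrict_ι_assoc, reassoc_of% ht, pN]
      rw [hγ'p, hA]
    rw [reassoc_of% htl]
    simp only [a, IsIso.hom_inv_id_assoc, reassoc_of% ht, Category.assoc]
  · refine (Category.assoc _ _ _).trans (Eq.trans ?_ (Category.assoc _ _ _).symm)
    erw [pullback.condition]
    refine (Category.assoc _ _ _).symm.trans (Eq.trans ?_ (Category.assoc _ _ _))
    refine congrArg (· ≫ u'') ?_
    exact hsnd (Q := (FEt.restrict u'').obj ((FEt.restrict (X.homOfLE h)).obj W)) _ _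

end Groth.L27.LefNbhd
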