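import Groth.Agent.L27.Lefschetz.NbhdFF
import Mathlib.RingTheory.Ideal.Quotient.Noetherian

/-!
# Full faithfulness near a hypersurface of a punctured spectrum from clopen extension
-/

set_option autoImplicit false
set_option linter.style.haveILetI false
set_option backward.isDefEq.respectTransparency false
universe u

open CategoryTheory CategoryTheory.Limits AlgebraicGeometry TopologicalSpace IsLocalRing

noncomputable section

namespace Groth.L27.LefNbhd

theorem restrict_nhds_of_ext (A : Type u) [CommRing A] [IsLocalRing A] (f : A)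
    (hext : ∀ (U' : (Spec (CommRingCat.of A)).Opens), U' ≤ FEt.puncturedSpec A →
      (∀ q : PrimeSpectrum A, f ∈ q.asIdeal → q ≠ closedPoint A → q ∈ U') →
      ∀ {E : Scheme.{u}} (g : E ⟶ (U' : Scheme.{u})) [IsFinite g] [AlgebraicGeometry.Etale g] (C₀ : Set E),
      IsClopen ((Subtype.val : (g ⁻¹' {z : (U' : Scheme.{u}) | f ∈ (U'.ι z).asIdeal}) → E) ⁻¹' C₀) →
      ∃ O : (U' : Scheme.{u}).Opens, {z : (U' : Scheme.{u}) | f ∈ (U'.ι z).asIdeal} ⊆ (O : Set (U' : Scheme.{u})) ∧
        ∃ C : Set E, IsClopen ((Subtype.val : (g ⁻¹' (O : Set (U' : Scheme.{u}))) → E) ⁻¹' C) ∧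
          ∀ z, f ∈ (U'.ι (g z)).asIdeal → (z ∈ C ↔ z ∈ C₀)) :
    ∀ (U' : (Spec (CommRingCat.of A)).Opens) (_ : U' ≤ (FEt.puncturedSpec A)) (u' : pullback (FEt.puncturedSpec A).ι (Spec.map (CommRingCat.ofHom (Ideal.Quotient.mk (Ideal.span {f})))) ⟶ (U' : Scheme.{u}))
      (_ : u' ≫ U'.ι = (pullback.fst (FEt.puncturedSpec A).ι (Spec.map (CommRingCat.ofHom (Ideal.Quotient.mk (Ideal.span {f})))) ≫ (FEt.puncturedSpec A).ι)) (V' W' : FEt.Cat (U' : Scheme.{u})),
      (∀ φ₀ : (FEt.restrict u').obj V' ⟶ (FEt.restrict u').obj W',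
        ∃ (U'' : (Spec (CommRingCat.of A)).Opens) (h : U'' ≤ U') (u'' : pullback (FEt.puncturedSpec A).ι (Spec.map (CommRingCat.ofHom (Ideal.Quotient.mk (Ideal.span {f})))) ⟶ (U'' : Scheme.{u}))
          (hu : u'' ≫ (Spec (CommRingCat.of A)).homOfLE h = u')
          (φ : (FEt.restrict ((Spec (CommRingCat.of A)).homOfLE h)).obj V' ⟶ (FEt.restrict ((Spec (CommRingCat.of A)).homOfLE h)).obj W'),
          (FEt.restrict u'').map φ =
            (MorphismProperty.Over.pullbackComp u'' ((Spec (CommRingCat.of A)).homOfLE h) u' hu.symm).inv.app V' ≫ φ₀ ≫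
              (MorphismProperty.Over.pullbackComp u'' ((Spec (CommRingCat.of A)).homOfLE h) u' hu.symm).hom.app W') ∧
      (∀ φ ψ : V' ⟶ W', (FEt.restrict u').map φ = (FEt.restrict u').map ψ →
        ∃ (U'' : (Spec (CommRingCat.of A)).Opens) (h : U'' ≤ U') (u'' : pullback (FEt.puncturedSpec A).ι (Spec.map (CommRingCat.ofHom (Ideal.Quotient.mk (Ideal.span {f})))) ⟶ (U'' : Scheme.{u})),
          u'' ≫ (Spec (CommRingCat.of A)).homOfLE h = u' ∧
          (FEt.restrict ((Spec (CommRingCat.of A)).homOfLE h)).map φ = (FEt.restrict ((Spec (CommRingCat.of A)).homOfLE h)).map ψ) := by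
  intro U' hU' u' hu' V' W'
  let U := FEt.puncturedSpec A
  let q := Spec.map (CommRingCat.ofHom (Ideal.Quotient.mk (Ideal.span {f})))
  haveI : IsClosedImmersion q := IsClosedImmersion.spec_of_surjective _ Ideal.Quotient.mk_surjective
  haveI : IsClosedImmersion (pullback.fst U.ι q) := inferInstance
  haveI : IsClosedImmersion (u' ≫ (Spec (CommRingCat.of A)).homOfLE hU') := by
    have h : u' ≫ (Spec (CommRingCat.of A)).homOfLE hU' = pullback.fst U.ι q := by
      rw [← cancel_mono U.ι, Category.assoc, Scheme.homOfLE_ι]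
      exact hu'
    rw [h]; infer_instance
  haveI : IsClosedImmersion u' := IsClosedImmersion.of_comp u' ((Spec (CommRingCat.of A)).homOfLE hU')
  have hq : Set.range q = PrimeSpectrum.zeroLocus ({f} : Set A) := by
    rw [show Set.range q = PrimeSpectrum.zeroLocus ((RingHom.ker (Ideal.Quotient.mk (Ideal.span {f})) : Ideal A) : Set A) from
      range_comap_of_surjective _ _ Ideal.Quotient.mk_surjective, Ideal.mk_ker, PrimeSpectrum.zeroLocus_span]
  have hlift : ∀ x : PrimeSpectrum A, x ≠ closedPoint A → f ∈ x.asIdeal →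
      ∃ z, U'.ι (u' z) = x := by
    intro x hx hfx
    obtain ⟨z, hz⟩ : (⟨x, hx⟩ : (U : Scheme.{u})) ∈ Set.range (pullback.fst U.ι q) := by
      rw [Scheme.Pullback.range_fst]
      show x ∈ Set.range q
      rw [hq]
      exact Set.singleton_subset_iff.2 hfx
    refine ⟨z, ?_⟩
    rw [← Scheme.Hom.comp_apply, hu', Scheme.Hom.comp_apply, hz]
    rfl
  have hrange : Set.range u' = {z : (U' : Scheme.{u}) | f ∈ (U'.ι z).asIdeal} := by
    ext x
    constructor
    · rintro ⟨z, rfl⟩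
      show f ∈ (U'.ι (u' z)).asIdeal
      rw [← Scheme.Hom.comp_apply, hu', Scheme.Hom.comp_apply]
      have : U.ι (pullback.fst U.ι q z) ∈ Set.range q := ⟨pullback.snd U.ι q z, by
        rw [← Scheme.Hom.comp_apply, ← Scheme.Hom.comp_apply, ← pullback.condition]⟩
      rw [hq] at this
      exact this (Set.mem_singleton f)
    · intro hx
      obtain ⟨z, hz⟩ := hlift (U'.ι x) (hU' x.2) hx
      exact ⟨z, U'.ι.isOpenEmbedding.injective hz⟩
  have hmem : ∀ x : PrimeSpectrum A, f ∈ x.asIdeal → x ≠ closedPoint A → x ∈ U' := fun x hfx hx => by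
    obtain ⟨z, rfl⟩ := hlift x hx hfx
    exact (u' z).2
  refine ⟨fun φ₀ => full_nbhd u' (fun g hg₁ hg₂ C₀ hC₀ => ?_) φ₀, fun φ ψ h => faithful_nbhd u' φ ψ h⟩
  haveI := hg₁; haveI := hg₂
  rw [hrange] at hC₀ ⊢
  exact hext U' hU' hmem g C₀ hC₀

end Groth.L27.LefNbhd
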