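import Groth.Agent.L27.Lefschetz.NbhdModel
import Groth.Agent.L27.Lefschetz.NbhdSetup
import Mathlib.RingTheory.Ideal.Quotient.Noetherian
import Mathlib.Topology.Sober

/-!
# Clopens of a finite étale cover near a hypersurface of a punctured spectrum, finite `H¹` case
-/

set_option autoImplicit false
set_option linter.style.haveILetI false
set_option maxSynthPendingDepth 3
set_option backward.isDefEq.respectTransparency false
set_option backward.isDefEq.respectTransparency.types false
universe u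

open CategoryTheory CategoryTheory.Limits AlgebraicGeometry TopologicalSpace Opposite IsLocalRing

attribute [local instance] HasDerivedCategory.standard

noncomputable section

namespace Groth.L27.LefNbhd

open Groth.L29.CechSect

variable {A : Type u} [CommRing A]

theorem exists_smul_regular {B : Type u} [CommRing B] [Algebra A B] {f : A} (hnz : f ∈ nonZeroDivisors A)
    (G : B) [Module.Flat A (Localization.Away G)] (b : B) (l : ℕ) (hb : f ^ l • b = 0) :
    ∃ m : ℕ, G ^ m * b = 0 := by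
  have hreg : IsSMulRegular A (f ^ l) :=
    (isSMulRegular_iff_right_eq_zero_of_smul).2 fun x hx => (pow_mem hnz l).1 x hx
  have h := congrArg (algebraMap B (Localization.Away G)) hb
  rw [map_zero, Algebra.smul_def, map_mul, ← IsScalarTower.algebraMap_apply A B] at h
  have h2 : algebraMap B (Localization.Away G) b = 0 :=
    (isSMulRegular_iff_right_eq_zero_of_smul.1 (hreg.of_flat (S := Localization.Away G))) _ (by
      rw [smul_eq_mul]; exact h)
  obtain ⟨⟨_, m, rfl⟩, hm⟩ := (IsLocalization.map_eq_zero_iff (Submonoid.powers G) _ _).1 h2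
  exact ⟨m, hm⟩

/-- The `f`-power torsion. -/
def torK (f : A) (B : Type u) [CommRing B] [Algebra A B] : Ideal B where
  carrier := {x | ∃ l : ℕ, f ^ l • x = 0}
  zero_mem' := ⟨0, smul_zero _⟩
  add_mem' := fun {x y} ⟨l, hx⟩ ⟨m, hy⟩ => ⟨l + m, by
    rw [smul_add, pow_add, mul_smul _ _ y, hy, smul_zero, add_zero, mul_comm, mul_smul, hx, smul_zero]⟩
  smul_mem' := fun c x ⟨l, hx⟩ => ⟨l, by rw [smul_comm, hx, smul_zero]⟩

theorem exists_clopen_nbhd_finite [IsNoetherianRing A] [IsLocalRing A] (f : A) (hf : f ∈ maximalIdeal A)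
    [IsAdicComplete (Ideal.span {f}) A] (hnz : f ∈ nonZeroDivisors A)
    (h1 : Module.Finite A (LocCoh.H (maximalIdeal A) 1 (A ⧸ Ideal.span {f})))
    (U' : (Spec (CommRingCat.of A)).Opens) (hU' : U' ≤ FEt.puncturedSpec A)
    (hmem : ∀ q : PrimeSpectrum A, f ∈ q.asIdeal → q ≠ closedPoint A → q ∈ U')
    {E : Scheme.{u}} (g : E ⟶ (U' : Scheme.{u})) [IsFinite g] [AlgebraicGeometry.Etale g] (C₀ : Set E)
    (hC₀ : IsClopen ((Subtype.val : (g ⁻¹' {z : (U' : Scheme.{u}) | f ∈ (U'.ι z).asIdeal}) → E) ⁻¹' C₀)) :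
    ∃ O : (U' : Scheme.{u}).Opens, {z : (U' : Scheme.{u}) | f ∈ (U'.ι z).asIdeal} ⊆ (O : Set (U' : Scheme.{u})) ∧
      ∃ C : Set E, IsClopen ((Subtype.val : (g ⁻¹' (O : Set (U' : Scheme.{u}))) → E) ⁻¹' C) ∧
        ∀ z, f ∈ (U'.ι (g z)).asIdeal → (z ∈ C ↔ z ∈ C₀) := by
  have hcpt : IsCompact (U' : Set (Spec (CommRingCat.of A))) := NoetherianSpace.isCompact (α := PrimeSpectrum A) _
  obtain ⟨B, _, _, i, hB, sq⟩ := Groth.L19.Approx.exists_finite_extend U' hcpt g
  let π : Spec (CommRingCat.of B) ⟶ Spec (CommRingCat.of A) := Spec.map (CommRingCat.ofHom (algebraMap A B))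
  haveI : IsOpenImmersion i := MorphismProperty.of_isPullback (P := @IsOpenImmersion) sq.flip inferInstance
  haveI : IsNoetherianRing B := IsNoetherianRing.of_finite A B
  have hw : ∀ z : E, π (i z) = U'.ι (g z) := fun z => by
    rw [← Scheme.Hom.comp_apply, ← Scheme.Hom.comp_apply]
    exact congrArg (fun m : E ⟶ Spec (CommRingCat.of A) => m z) sq.w
  have hri : ∀ Q : Spec (CommRingCat.of B), π Q ∈ U' → Q ∈ Set.range i := fun Q hQ => by
    obtain ⟨t, ht, -⟩ := Scheme.Pullback.exists_preimage_pullback (f := π) (g := U'.ι) Q ⟨π Q, hQ⟩ rfl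
    refine ⟨sq.isoPullback.inv t, ?_⟩
    rw [← Scheme.Hom.comp_apply, sq.isoPullback_inv_fst]
    exact ht
  have hD : ∀ r : PrimeSpectrum A, r ∈ U' → ∃ a : A, a ∉ r.asIdeal ∧
      Module.Flat A (Localization.Away (algebraMap A B a)) := fun r hr => by
    obtain ⟨_, ⟨a, rfl⟩, har, haU⟩ := (PrimeSpectrum.isTopologicalBasis_basic_opens (R := A)).exists_subset_of_mem_open
      (u := {p : PrimeSpectrum A | p ∈ U'}) hr U'.isOpen
    exact ⟨a, har, flat_away_of_range_le g i sq.w _ fun Q hQ => hri Q (haU hQ)⟩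
  let K := torK f B
  let B' := B ⧸ K
  let q : PrimeSpectrum B' → PrimeSpectrum B := PrimeSpectrum.comap (Ideal.Quotient.mk K)
  have hπq : ∀ Q' : PrimeSpectrum B', π (q Q') = PrimeSpectrum.comap (algebraMap A B') Q' := fun Q' => rfl
  have hK : ∀ z : E, i z ∈ Set.range q := fun z => by
    show _ ∈ Set.range (PrimeSpectrum.comap (Ideal.Quotient.mk K))
    rw [range_comap_of_surjective _ _ Ideal.Quotient.mk_surjective, Ideal.mk_ker]
    rintro x ⟨l, hl⟩
    obtain ⟨a, ha, hflat⟩ := hD (π (i z)) (by rw [hw]; exact (g z).2)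
    obtain ⟨m, hm⟩ := exists_smul_regular hnz (algebraMap A B a) x l hl
    exact ((i z).2.mem_or_mem (hm ▸ zero_mem (i z).asIdeal)).resolve_left
      fun h => ha ((i z).2.mem_of_pow_mem m h)
  choose ι hι using hK
  have hqemb : Topology.IsEmbedding q :=
    (PrimeSpectrum.isClosedEmbedding_comap_of_surjective B' (Ideal.Quotient.mk K) Ideal.Quotient.mk_surjective).isEmbedding
  have hιemb : Topology.IsEmbedding ι := (hqemb.of_comp_iff).1 (by
    rw [show q ∘ ι = i from funext hι]; exact i.isOpenEmbedding.isEmbedding)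
  have hπι : ∀ z, PrimeSpectrum.comap (algebraMap A B') (ι z) = U'.ι (g z) := fun z => by
    rw [← hπq, hι, hw]
  have hrι : ∀ Q' : PrimeSpectrum B', algebraMap A B' f ∈ Q'.asIdeal →
      ¬ maximalIdeal A ≤ Q'.asIdeal.comap (algebraMap A B') → ∃ z, ι z = Q' := fun Q' hfQ hm => by
    obtain ⟨z, hz⟩ := hri (q Q') (hmem _ hfQ fun h => hm (congrArg PrimeSpectrum.asIdeal h).ge)
    exact ⟨z, hqemb.injective ((hι z).trans hz)⟩
  have hreg : IsSMulRegular B' f := (isSMulRegular_iff_right_eq_zero_of_smul).2 fun x hx => by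
    obtain ⟨b, rfl⟩ := Ideal.Quotient.mk_surjective x
    obtain ⟨l, hl⟩ := (Ideal.Quotient.eq_zero_iff_mem (I := K)).1
      (show Ideal.Quotient.mk K (f • b) = 0 from hx)
    exact Ideal.Quotient.eq_zero_iff_mem.2 ⟨l + 1, by rw [pow_succ, mul_smul]; exact hl⟩
  have hfin : Module.Finite A (LocCoh.H (maximalIdeal A) 1 (B' ⧸ (Ideal.span {f} • (⊤ : Submodule A B')))) := by
    refine finite_H_of_separated f h1 _ (fun x => ?_) fun p hfp hp x hx => ?_
    · obtain ⟨y, rfl⟩ := Submodule.Quotient.mk_surjective _ x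
      exact (Submodule.Quotient.mk_eq_zero _).2
        (Submodule.smul_mem_smul (Ideal.mem_span_singleton_self f) Submodule.mem_top)
    · obtain ⟨y, rfl⟩ := Submodule.Quotient.mk_surjective _ x
      obtain ⟨b, rfl⟩ := Ideal.Quotient.mk_surjective y
      obtain ⟨a, ha, hflat⟩ := hD p (hmem p hfp hp)
      haveI : Module.Flat A (LocalizedModule (Submonoid.powers (algebraMap A B a)) B) := hflat
      haveI : Module.Flat A (LocalizedModule p.asIdeal.primeCompl B) :=
        Groth.L20.flat_localizedModule_of_forall p.asIdeal.primeCompl fun J z hz => by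
          obtain ⟨_, ⟨k, rfl⟩, hk⟩ := Groth.L20.exists_smul_eq_zero_of_flat (S := B)
            (Submonoid.powers (algebraMap A B a)) J.subtype Subtype.val_injective z hz
          refine ⟨a ^ k, fun h => ha (p.2.mem_of_pow_mem k h), ?_⟩
          rw [← algebraMap_smul B (a ^ k) z, map_pow]
          exact hk
      obtain ⟨t, ht, c, hc⟩ := exists_smul_eq_of_functionals p f b fun φ => by
        have hker : (K.restrictScalars A) ≤ LinearMap.ker φ := fun w ⟨l, hl⟩ => by
          have h := congrArg φ hl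
          rw [map_smul, map_zero, smul_eq_mul, mul_comm] at h
          exact (pow_mem hnz l).2 _ h
        let φ' : B' →ₗ[A] A :=
          (Submodule.liftQ (K.restrictScalars A) φ hker).comp (Submodule.Quotient.restrictScalarsEquiv A K).symm.toLinearMap
        let φ'' : (B' ⧸ (Ideal.span {f} • (⊤ : Submodule A B'))) →ₗ[A] Formal2.quotPow A (Ideal.span {f}) A 0 :=
          Submodule.mapQ _ _ φ' (by
            rw [zero_add, pow_one]
            intro w hw
            refine Submodule.smul_induction_on hw (fun r hr x _ => ?_) fun x y hx hy => add_mem hx hy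
            rw [Submodule.mem_comap, map_smul]
            exact Submodule.smul_mem_smul hr Submodule.mem_top)
        have h := (Submodule.Quotient.mk_eq_zero _).1 (show Submodule.Quotient.mk (φ b) = 0 from hx φ'')
        rwa [zero_add, pow_one, smul_eq_mul, Ideal.mul_top] at h
      refine ⟨t, ht, (Submodule.Quotient.mk_eq_zero _).2 ?_⟩
      change t • Ideal.Quotient.mk K b ∈ _
      rw [show t • Ideal.Quotient.mk K b = f • Ideal.Quotient.mk K c from congrArg (Ideal.Quotient.mk K) hc]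
      exact Submodule.smul_mem_smul (Ideal.mem_span_singleton_self f) Submodule.mem_top
  let W : Set (PrimeSpectrum B') := {Q | algebraMap A B' f ∈ Q.asIdeal ∧
    ¬ maximalIdeal A ≤ Q.asIdeal.comap (algebraMap A B')}
  let S : Set E := g ⁻¹' {z : (U' : Scheme.{u}) | f ∈ (U'.ι z).asIdeal}
  let ψ : W → S := fun Q => ⟨(hrι Q.1 Q.2.1 Q.2.2).choose, by
    show f ∈ (U'.ι (g _)).asIdeal
    rw [← hπι, (hrι Q.1 Q.2.1 Q.2.2).choose_spec]
    exact Q.2.1⟩
  have hψ : Continuous ψ := by
    refine Continuous.subtype_mk ?_ _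
    rw [hιemb.continuous_iff]
    exact continuous_subtype_val.congr fun Q => ((hrι Q.1 Q.2.1 Q.2.2).choose_spec).symm
  have hC₀' : IsClopen ((Subtype.val : W → PrimeSpectrum B') ⁻¹' (ι '' C₀)) := by
    convert hC₀.preimage hψ using 1
    ext Q
    constructor
    · rintro ⟨z, hz, hzQ⟩
      have : (hrι Q.1 Q.2.1 Q.2.2).choose = z := hιemb.injective ((hrι Q.1 Q.2.1 Q.2.2).choose_spec.trans hzQ.symm)
      show (hrι Q.1 Q.2.1 Q.2.2).choose ∈ C₀
      rw [this]
      exact hz
    · exact fun h => ⟨_, h, (hrι Q.1 Q.2.1 Q.2.2).choose_spec⟩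
  obtain ⟨O, hO, hOmem, C, C', hC, hC', hCC', hagree⟩ := exists_clopen_ext f hf hreg hfin (ι '' C₀) hC₀'
  refine ⟨⟨U'.ι ⁻¹' O, hO.preimage U'.ι.continuous⟩, fun z hz => hOmem _ hz (hU' z.2), ι ⁻¹' C, ⟨?_, ?_⟩,
    fun z hz => ?_⟩
  · refine isOpen_compl_iff.1 ?_
    have : ((Subtype.val : (g ⁻¹' (U'.ι ⁻¹' O)) → E) ⁻¹' (ι ⁻¹' C))ᶜ =
        (Subtype.val : (g ⁻¹' (U'.ι ⁻¹' O)) → E) ⁻¹' (ι ⁻¹' C') := by
      ext z
      exact (hCC' _ (by rw [hπι]; exact z.2)).symm
    show IsOpen (((Subtype.val : (g ⁻¹' (U'.ι ⁻¹' O)) → E) ⁻¹' (ι ⁻¹' C))ᶜ)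
    rw [this]
    exact (hC'.preimage hιemb.continuous).preimage continuous_subtype_val
  · exact (hC.preimage hιemb.continuous).preimage continuous_subtype_val
  · have hzO : PrimeSpectrum.comap (algebraMap A B') (ι z) ∈ O := by
      rw [hπι]; exact hOmem _ hz (hU' (g z).2)
    have hfz : algebraMap A B' f ∈ (ι z).asIdeal := by
      have : f ∈ (PrimeSpectrum.comap (algebraMap A B') (ι z)).asIdeal := by rw [hπι]; exact hz
      exact this
    exact (hagree (ι z) hzO hfz).trans hιemb.injective.mem_set_image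

end Groth.L27.LefNbhd
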