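import Groth.Agent.S0802
import Mathlib.RingTheory.Spectrum.Prime.Topology

/-!
# Clopen subsets of a formal punctured cover extend to a neighbourhood
-/

set_option autoImplicit false
set_option linter.style.haveILetI false
set_option backward.isDefEq.respectTransparency false
set_option backward.isDefEq.respectTransparency.types false
universe u

open CategoryTheory CategoryTheory.Limits AlgebraicGeometry TopologicalSpace Opposite IsLocalRing

attribute [local instance] HasDerivedCategory.standard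

noncomputable section

namespace Groth.L27.LefNbhd

open Groth.L29.CechSect Groth.L29.Formal Groth.L29.ColimZero Groth.L29.PrincipalColim

section Idem

variable {A : Type u} [CommRing A] (f : A) {B : Type u} [CommRing B] [Algebra A B]

/-- `b / g ^ k` cuts out `C₀` on the part of `V(f)` where `g` is invertible. -/
def Cuts (C₀ : Set (PrimeSpectrum B)) (g : A) (b : B) : Prop :=
  ∀ Q : PrimeSpectrum B, algebraMap A B f ∈ Q.asIdeal → algebraMap A B g ∉ Q.asIdeal → (b ∉ Q.asIdeal ↔ Q ∈ C₀)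

/-- `b / g ^ k` is idempotent modulo `f ^ (n + 1)` on `g` invertible. -/
def Idem (n : ℕ) (g : A) (b : B) (k : ℕ) : Prop :=
  ∃ l : ℕ, ∃ c : B, algebraMap A B g ^ l * (b * b - algebraMap A B g ^ k * b) = f ^ (n + 1) • c

variable (n : ℕ) (g : A)

/-- the ideal of the `n`-th thickening -/
def locIdeal : Ideal (Localization.Away (algebraMap A B g)) :=
  Ideal.span {algebraMap B (Localization.Away (algebraMap A B g)) (algebraMap A B f ^ (n + 1))}

theorem mem_locIdeal {x : Localization.Away (algebraMap A B g)} : x ∈ locIdeal f (B := B) n g ↔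
    ∃ a, a * algebraMap B (Localization.Away (algebraMap A B g)) (algebraMap A B f ^ (n + 1)) = x :=
  Ideal.mem_span_singleton'

/-- functions on the `n`-th thickening over `g` invertible -/
abbrev Loc : Type u :=
  Localization.Away (algebraMap A B g) ⧸ locIdeal f (B := B) n g

/-- to the thickening -/
abbrev toLoc : B →+* Loc f (B := B) n g :=
  (Ideal.Quotient.mk _).comp (algebraMap B (Localization.Away (algebraMap A B g)))

theorem toLoc_eq_iff {b b' : B} : toLoc f n g b = toLoc f n g b' ↔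
    ∃ l : ℕ, ∃ c : B, algebraMap A B g ^ l * (b - b') = f ^ (n + 1) • c := by
  rw [← sub_eq_zero, ← map_sub, RingHom.comp_apply, Ideal.Quotient.eq_zero_iff_mem, mem_locIdeal]
  constructor
  · rintro ⟨a, ha⟩
    obtain ⟨⟨a₀, _, ⟨j, rfl⟩⟩, hj⟩ := IsLocalization.surj (Submonoid.powers (algebraMap A B g)) a
    have : algebraMap B (Localization.Away (algebraMap A B g)) (algebraMap A B g ^ j * (b - b')) =
        algebraMap B (Localization.Away (algebraMap A B g)) (a₀ * algebraMap A B f ^ (n + 1)) := by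
      rw [map_mul, map_mul, ← hj, ← ha]
      ring
    obtain ⟨⟨_, ⟨i, rfl⟩⟩, hi⟩ := (IsLocalization.eq_iff_exists (Submonoid.powers (algebraMap A B g)) _).1 this
    refine ⟨i + j, algebraMap A B g ^ i * a₀, ?_⟩
    rw [Algebra.smul_def, map_pow, pow_add, mul_assoc, hi]
    ring
  · rintro ⟨l, c, h⟩
    obtain ⟨v, hv⟩ := (IsLocalization.map_units (Localization.Away (algebraMap A B g))
      (⟨algebraMap A B g ^ l, l, rfl⟩ : Submonoid.powers (algebraMap A B g))).exists_right_inv
    refine ⟨algebraMap B _ c * v, ?_⟩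
    have h' := congrArg (algebraMap B (Localization.Away (algebraMap A B g))) h
    rw [map_mul, Algebra.smul_def, map_pow (algebraMap A B), map_mul] at h'
    linear_combination (algebraMap B (Localization.Away (algebraMap A B g)) (b - b')) * hv - v * h'

theorem isUnit_toLoc : IsUnit (toLoc f (B := B) n g (algebraMap A B g)) :=
  ((IsLocalization.Away.algebraMap_isUnit (S := Localization.Away (algebraMap A B g)) (algebraMap A B g))).map
    (Ideal.Quotient.mk _)

theorem comap_toLoc (P : PrimeSpectrum (Loc f (B := B) n g)) :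
    algebraMap A B f ∈ (PrimeSpectrum.comap (toLoc f n g) P).asIdeal ∧
      algebraMap A B g ∉ (PrimeSpectrum.comap (toLoc f n g) P).asIdeal := by
  refine ⟨?_, fun h => P.2.ne_top (Ideal.eq_top_of_isUnit_mem _ h (isUnit_toLoc f n g))⟩
  refine P.2.mem_of_pow_mem (n + 1) ?_
  rw [← map_pow, show toLoc f n g (algebraMap A B f ^ (n + 1)) = 0 from
    Ideal.Quotient.eq_zero_iff_mem.2 (Ideal.mem_span_singleton_self _)]
  exact zero_mem _

theorem surj_toLoc (x : Loc f (B := B) n g) :
    ∃ (b : B) (k : ℕ), toLoc f n g (algebraMap A B g) ^ k * x = toLoc f n g b := by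
  obtain ⟨a, rfl⟩ := Ideal.Quotient.mk_surjective x
  obtain ⟨⟨b, _, ⟨k, rfl⟩⟩, hb⟩ := IsLocalization.surj (Submonoid.powers (algebraMap A B g)) a
  refine ⟨b, k, ?_⟩
  rw [RingHom.comp_apply, RingHom.comp_apply, ← hb, ← map_pow, ← map_mul, map_pow]
  ring_nf

variable (W C₀ : Set (PrimeSpectrum B))
  (hW : ∀ Q : PrimeSpectrum B, algebraMap A B f ∈ Q.asIdeal → algebraMap A B g ∉ Q.asIdeal → Q ∈ W)
  (hC₀ : IsClopen ((Subtype.val : W → PrimeSpectrum B) ⁻¹' C₀))

include hW hC₀ in
theorem exists_cuts : ∃ (b : B) (k : ℕ), Cuts f C₀ g b ∧ Idem f n g b k := by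
  let φ : PrimeSpectrum (Loc f (B := B) n g) → W := fun P =>
    ⟨PrimeSpectrum.comap (toLoc f n g) P, hW _ (comap_toLoc f n g P).1 (comap_toLoc f n g P).2⟩
  have hφ : Continuous φ := (PrimeSpectrum.continuous_comap _).subtype_mk _
  obtain ⟨e, he, hCe⟩ := PrimeSpectrum.exists_idempotent_basicOpen_eq_of_isClopen (hC₀.preimage hφ)
  obtain ⟨b, k, hb⟩ := surj_toLoc f n g e
  refine ⟨b, k, fun Q hfQ hgQ => ?_, ?_⟩
  · obtain ⟨P, hP⟩ : Q ∈ Set.range (PrimeSpectrum.comap (toLoc f (B := B) n g)) := by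
      rw [PrimeSpectrum.comap_comp, Set.range_comp, range_comap_of_surjective _ _ Ideal.Quotient.mk_surjective,
        Ideal.mk_ker]
      have hQ : Q ∈ Set.range (PrimeSpectrum.comap (algebraMap B (Localization.Away (algebraMap A B g)))) := by
        rw [PrimeSpectrum.localization_away_comap_range (Localization.Away (algebraMap A B g)) (algebraMap A B g)]
        exact hgQ
      obtain ⟨P, rfl⟩ := hQ
      refine ⟨P, ?_, rfl⟩
      rw [locIdeal, PrimeSpectrum.zeroLocus_span, PrimeSpectrum.mem_zeroLocus, Set.singleton_subset_iff]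
      show algebraMap A B f ^ (n + 1) ∈ (PrimeSpectrum.comap (algebraMap B _) P).asIdeal
      exact Ideal.pow_mem_of_mem _ hfQ (n + 1) n.succ_pos
    have hPe : (Q ∈ C₀) ↔ e ∉ P.asIdeal := by
      rw [← hP]
      exact Set.ext_iff.1 hCe P
    rw [hPe, ← hP]
    show toLoc f n g b ∉ P.asIdeal ↔ _
    rw [← hb, not_iff_not, P.2.mul_mem_iff_mem_or_mem, or_iff_right]
    exact fun h => P.2.ne_top (Ideal.eq_top_of_isUnit_mem _ h ((isUnit_toLoc f n g).pow k))
  · refine (toLoc_eq_iff f n g).1 ?_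
    rw [map_mul, map_mul, map_pow, ← hb, show toLoc f n g (algebraMap A B g) ^ k * e *
      (toLoc f n g (algebraMap A B g) ^ k * e) = toLoc f n g (algebraMap A B g) ^ k *
      (toLoc f n g (algebraMap A B g) ^ k * (e * e)) by ring, he.eq]

theorem cuts_unique {b b' : B} {k k' : ℕ} (hb : Cuts f C₀ g b) (hi : Idem f n g b k)
    (hb' : Cuts f C₀ g b') (hi' : Idem f n g b' k') :
    ∃ l : ℕ, ∃ c : B, algebraMap A B g ^ l * (algebraMap A B g ^ k' * b - algebraMap A B g ^ k * b') =
      f ^ (n + 1) • c := by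
  refine (toLoc_eq_iff f n g).1 ?_
  obtain ⟨v, hv⟩ := (isUnit_toLoc f (B := B) n g).exists_right_inv
  have hq : toLoc f n g b * toLoc f n g b = toLoc f n g (algebraMap A B g) ^ k * toLoc f n g b := by
    rw [← map_mul, ← map_pow, ← map_mul]
    exact (toLoc_eq_iff f n g).2 hi
  have hq' : toLoc f n g b' * toLoc f n g b' = toLoc f n g (algebraMap A B g) ^ k' * toLoc f n g b' := by
    rw [← map_mul, ← map_pow, ← map_mul]
    exact (toLoc_eq_iff f n g).2 hi'
  have key : v ^ k * toLoc f n g b = v ^ k' * toLoc f n g b' := by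
    have hid : ∀ (k : ℕ) (x : Loc f (B := B) n g), x * x = toLoc f n g (algebraMap A B g) ^ k * x →
        IsIdempotentElem (v ^ k * x) := fun k x hx => by
      show v ^ k * x * (v ^ k * x) = v ^ k * x
      rw [show v ^ k * x * (v ^ k * x) = v ^ k * v ^ k * (x * x) by ring, hx,
        show v ^ k * v ^ k * (toLoc f n g (algebraMap A B g) ^ k * x) =
          (toLoc f n g (algebraMap A B g) * v) ^ k * (v ^ k * x) by ring, hv, one_pow, one_mul]
    refine PrimeSpectrum.basicOpen_injOn_isIdempotentElem (hid k _ hq) (hid k' _ hq') (SetLike.ext fun P => ?_)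
    have hmem : ∀ (k : ℕ) (x : Loc f (B := B) n g), v ^ k * x ∈ P.asIdeal ↔ x ∈ P.asIdeal := fun k x => by
      refine ⟨fun h => ?_, fun h => P.asIdeal.mul_mem_left _ h⟩
      have := P.asIdeal.mul_mem_left (toLoc f n g (algebraMap A B g) ^ k) h
      rwa [← mul_assoc, ← mul_pow, hv, one_pow, one_mul] at this
    show ¬ _ ↔ ¬ _
    rw [hmem, hmem]
    exact (hb _ (comap_toLoc f n g P).1 (comap_toLoc f n g P).2).trans
      (hb' _ (comap_toLoc f n g P).1 (comap_toLoc f n g P).2).symm
  rw [map_mul, map_mul, map_pow, map_pow]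
  have e : (toLoc f n g (algebraMap A B g) * v) ^ k = 1 ∧ (toLoc f n g (algebraMap A B g) * v) ^ k' = 1 := by
    rw [hv]; simp
  calc toLoc f n g (algebraMap A B g) ^ k' * toLoc f n g b
      = (toLoc f n g (algebraMap A B g) * v) ^ k * (toLoc f n g (algebraMap A B g) ^ k' * toLoc f n g b) := by
        rw [e.1, one_mul]
    _ = toLoc f n g (algebraMap A B g) ^ k * toLoc f n g (algebraMap A B g) ^ k' * (v ^ k * toLoc f n g b) := by
        ring
    _ = (toLoc f n g (algebraMap A B g) * v) ^ k' * (toLoc f n g (algebraMap A B g) ^ k * toLoc f n g b') := by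
        rw [key]; ring
    _ = toLoc f n g (algebraMap A B g) ^ k * toLoc f n g b' := by rw [e.2, one_mul]

end Idem

section Glue

variable {A : Type u} [CommRing A] (f : A) (B : Type u) [CommRing B] [Algebra A B] (C₀ : Set (PrimeSpectrum B))

/-- the `n`-th thickening as a module -/
abbrev lev (n : ℕ) : ModuleCat.{u} A := ModuleCat.of A (Formal2.quotPow A (Ideal.span {f}) B n)

theorem lev_eq_iff (n : ℕ) {b b' : B} :
    (Formal2.quotPowπ A (Ideal.span {f}) B n b = Formal2.quotPowπ A (Ideal.span {f}) B n b') ↔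
      ∃ c : B, b - b' = f ^ (n + 1) • c := by
  rw [Submodule.mkQ_apply, Submodule.mkQ_apply, Submodule.Quotient.eq, Ideal.span_singleton_pow,
    Submodule.ideal_span_singleton_smul, Submodule.mem_smul_pointwise_iff_exists]
  exact ⟨fun ⟨c, _, hc⟩ => ⟨c, hc.symm⟩, fun ⟨c, hc⟩ => ⟨c, trivial, hc.symm⟩⟩

/-- sections cutting out `C₀` -/
def Rep (n : ℕ) (g : A) (s : sec (D g) (lev f B n)) : Prop :=
  ∃ (b : B) (k : ℕ), g ^ k • s = (tilde.toOpen (R := CommRingCat.of A) (lev f B n) (D g)).hom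
      (Formal2.quotPowπ A (Ideal.span {f}) B n b) ∧ Cuts f C₀ g b ∧ Idem f n g b k

variable {B C₀} {n : ℕ} {g : A}

theorem toOpen_eq {b b' : B} (h : ∃ l : ℕ, ∃ c : B, algebraMap A B g ^ l * (b - b') = f ^ (n + 1) • c) :
    (tilde.toOpen (R := CommRingCat.of A) (lev f B n) (D g)).hom (Formal2.quotPowπ A (Ideal.span {f}) B n b) =
      (tilde.toOpen (R := CommRingCat.of A) (lev f B n) (D g)).hom (Formal2.quotPowπ A (Ideal.span {f}) B n b') := by
  obtain ⟨l, c, hc⟩ := h
  refine (smul_bij_D g g dvd_rfl (lev f B n) l).1 ?_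
  change g ^ l • _ = g ^ l • _
  rw [← map_smul, ← map_smul, ← map_smul, ← map_smul]
  refine congrArg _ ((lev_eq_iff f B n).2 ⟨c, ?_⟩)
  rw [← hc, ← smul_sub, Algebra.smul_def, map_pow]

theorem rep_unique {s s' : sec (D g) (lev f B n)} (h : Rep f B C₀ n g s) (h' : Rep f B C₀ n g s') : s = s' := by
  obtain ⟨b, k, hs, hb, hi⟩ := h
  obtain ⟨b', k', hs', hb', hi'⟩ := h'
  refine (smul_bij_D g g dvd_rfl (lev f B n) (k + k')).1 ?_
  change g ^ (k + k') • s = g ^ (k + k') • s'
  conv_rhs => rw [pow_add, mul_smul, hs', ← map_smul, ← map_smul]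
  rw [add_comm, pow_add, mul_smul, hs, ← map_smul, ← map_smul]
  refine toOpen_eq f ?_
  simpa only [Algebra.smul_def, map_pow] using cuts_unique f n g C₀ hb hi hb' hi'

theorem rep_exists (W : Set (PrimeSpectrum B))
    (hW : ∀ Q : PrimeSpectrum B, algebraMap A B f ∈ Q.asIdeal → algebraMap A B g ∉ Q.asIdeal → Q ∈ W)
    (hC₀ : IsClopen ((Subtype.val : W → PrimeSpectrum B) ⁻¹' C₀)) : ∃ s, Rep f B C₀ n g s := by
  obtain ⟨b, k, hb, hi⟩ := exists_cuts f n g W C₀ hW hC₀
  obtain ⟨s, hs⟩ := (smul_bij_D g g dvd_rfl (lev f B n) k).2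
    ((tilde.toOpen (R := CommRingCat.of A) (lev f B n) (D g)).hom (Formal2.quotPowπ A (Ideal.span {f}) B n b))
  exact ⟨s, b, k, hs, hb, hi⟩

theorem rep_res {s : sec (D g) (lev f B n)} (h : Rep f B C₀ n g s) (g' : A) (hle : D (g * g') ≤ D g) :
    Rep f B C₀ n (g * g') (res hle (lev f B n) s) := by
  obtain ⟨b, k, hs, hb, l, c, hc⟩ := h
  refine ⟨algebraMap A B g' ^ k * b, k, ?_, fun Q hf hg => ?_,
    ⟨l, algebraMap A B g' ^ (l + 2 * k) * c, ?_⟩⟩
  · rw [mul_pow, mul_comm (g ^ k), mul_smul, ← map_smul, hs, res_toOpen, ← map_smul, ← map_smul]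
    exact congrArg (fun z => (tilde.toOpen (R := CommRingCat.of A) (lev f B n) (D (g * g'))).hom (Formal2.quotPowπ A (Ideal.span {f}) B n z)) (by rw [Algebra.smul_def, map_pow])
  · rw [map_mul] at hg
    have hg₁ : algebraMap A B g ∉ Q.asIdeal := fun h => hg (Ideal.mul_mem_right _ _ h)
    have hg₂ : algebraMap A B g' ∉ Q.asIdeal := fun h => hg (Ideal.mul_mem_left _ _ h)
    rw [← hb Q hf hg₁, not_iff_not, Q.2.mul_mem_iff_mem_or_mem, or_iff_right]
    exact fun h => hg₂ (Q.2.mem_of_pow_mem k h)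
  · rw [map_mul, Algebra.smul_def] at *
    linear_combination (algebraMap A B g' ^ (l + 2 * k)) * hc

theorem rep_trans {s : sec (D g) (lev f B (n + 1))} (h : Rep f B C₀ (n + 1) g s) :
    Rep f B C₀ n g ((secMap (D g) (ModuleCat.ofHom (Formal2.quotPowTrans A (Ideal.span {f}) B n))).hom s) := by
  obtain ⟨b, k, hs, hb, l, c, hc⟩ := h
  refine ⟨b, k, ?_, hb, l, f • c, ?_⟩
  · rw [← map_smul, hs, secMap_toOpen]
    exact congrArg _ (by rfl)
  · rw [hc, smul_smul, ← pow_succ]

end Glue

end Groth.L27.LefNbhd
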