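import Groth.Agent.L27.Lefschetz.NbhdExtend
import Groth.Agent.L19.Approx.FiniteExtend
import Groth.Agent.L20.FlatLocusOpen
import Mathlib.RingTheory.Flat.Localization
import Mathlib.RingTheory.Finiteness.Quotient

/-!
# A model of a finite étale cover of a punctured neighbourhood on which `f` is regular
-/

set_option autoImplicit false
set_option linter.style.haveILetI false
set_option maxSynthPendingDepth 3
set_option backward.isDefEq.respectTransparency false
set_option backward.isDefEq.respectTransparency.types false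
universe u

open CategoryTheory CategoryTheory.Limits AlgebraicGeometry TopologicalSpace Opposite IsLocalRing

attribute [local instance] HasDerivedCategory.standard

noncomputable section

namespace Groth.L27.LefNbhd

open Groth.L29.CechSect Groth.L29.Formal Groth.L29.ColimZero Groth.L29.PrincipalColim

variable {A : Type u} [CommRing A]

theorem flat_away_of_range_le {E : Scheme.{u}} {U' : (Spec (CommRingCat.of A)).Opens} (g : E ⟶ (U' : Scheme.{u}))
    [Flat g] {B : Type u} [CommRing B] [Algebra A B] (i : E ⟶ Spec (CommRingCat.of B)) [IsOpenImmersion i]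
    (w : i ≫ Spec.map (CommRingCat.ofHom (algebraMap A B)) = g ≫ U'.ι) (G : B)
    (hG : ∀ Q : PrimeSpectrum B, G ∉ Q.asIdeal → Q ∈ Set.range i) :
    Module.Flat A (Localization.Away G) := by
  let L := Localization.Away G
  let j : Spec (CommRingCat.of L) ⟶ Spec (CommRingCat.of B) := Spec.map (CommRingCat.ofHom (algebraMap B L))
  have hr : Set.range j ⊆ Set.range i := by
    rw [show Set.range j = (PrimeSpectrum.basicOpen G : Set (PrimeSpectrum B)) from
      PrimeSpectrum.localization_away_comap_range L G]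
    exact fun Q hQ => hG Q hQ
  haveI : IsOpenImmersion j := IsOpenImmersion.of_isLocalization G
  haveI : IsOpenImmersion (IsOpenImmersion.lift i j hr) := by
    have h : IsOpenImmersion (IsOpenImmersion.lift i j hr ≫ i) := by rw [IsOpenImmersion.lift_fac]; infer_instance
    exact IsOpenImmersion.of_comp _ i
  have hfac : IsOpenImmersion.lift i j hr ≫ g ≫ U'.ι = Spec.map (CommRingCat.ofHom (algebraMap A L)) := by
    rw [← w, IsOpenImmersion.lift_fac_assoc, ← Spec.map_comp, ← CommRingCat.ofHom_comp, ← IsScalarTower.algebraMap_eq]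
  have hflat : Flat (Spec.map (CommRingCat.ofHom (algebraMap A L))) := hfac ▸ inferInstance
  exact RingHom.flat_algebraMap_iff.1 ((HasRingHomProperty.Spec_iff (P := @Flat)).1 hflat)

variable [IsNoetherianRing A]

/-- Functionals separate points of a module which is flat near `p`, modulo `f`. -/
theorem exists_smul_eq_of_functionals {B : Type u} [AddCommGroup B] [Module A B] [Module.Finite A B]
    (p : PrimeSpectrum A) [Module.Flat A (LocalizedModule p.asIdeal.primeCompl B)] (f : A) (b : B)
    (hb : ∀ φ : B →ₗ[A] A, φ b ∈ Ideal.span {f}) :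
    ∃ t ∉ p.asIdeal, ∃ c : B, t • b = f • c := by
  let S := p.asIdeal.primeCompl
  let Ap := Localization.AtPrime p.asIdeal
  let ι := LocalizedModule.mkLinearMap S B
  haveI : Module.Flat Ap (LocalizedModule S B) :=
    (Module.flat_iff_of_isLocalization Ap S (LocalizedModule S B)).2 inferInstance
  haveI : Module.Finite Ap (LocalizedModule S B) := Module.Finite.of_isLocalizedModule S ι
  haveI : Module.Free Ap (LocalizedModule S B) := Module.free_of_flat_of_isLocalRing
  let e := Module.Free.chooseBasis Ap (LocalizedModule S B)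
  haveI : Module.FinitePresentation A B := Module.finitePresentation_of_finite A B
  have hc : ∀ j, ∃ a : Ap, e.coord j (ι b) = f • a := fun j => by
    obtain ⟨φ, t, hφ⟩ := Module.FinitePresentation.exists_lift_of_isLocalizedModule S (Algebra.linearMap A Ap)
      ((e.coord j).restrictScalars A ∘ₗ ι)
    have h1 : algebraMap A Ap (φ b) = t • e.coord j (ι b) := LinearMap.congr_fun hφ b
    obtain ⟨a, ha⟩ := Ideal.mem_span_singleton'.1 (hb φ)
    obtain ⟨v, hv⟩ := (IsLocalization.map_units Ap t).exists_right_inv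
    refine ⟨algebraMap A Ap a * v, ?_⟩
    rw [← ha, map_mul, Submonoid.smul_def, Algebra.smul_def] at h1
    rw [Algebra.smul_def]
    linear_combination (-v) * h1 - e.coord j (ι b) * hv
  choose a ha using hc
  have h : ι b = f • ∑ j, a j • e j := by
    rw [Finset.smul_sum]
    conv_lhs => rw [← e.sum_repr (ι b)]
    refine Finset.sum_congr rfl fun j _ => ?_
    rw [← smul_assoc, ← ha j, e.coord_apply]
  obtain ⟨⟨c, t⟩, hct⟩ := IsLocalizedModule.surj S ι (∑ j, a j • e j)
  have h2 : ι ((t : A) • b) = ι (f • c) := by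
    rw [map_smul, map_smul, h, ← hct, Submonoid.smul_def, smul_comm]
  obtain ⟨⟨t', ht'⟩, hu⟩ := (IsLocalizedModule.eq_iff_exists S ι).1 h2
  refine ⟨t' * t, S.mul_mem ht' t.2, t' • c, ?_⟩
  rw [mul_smul, smul_comm f]
  exact hu

theorem finite_H_of_separated [IsLocalRing A] (f : A)
    (h1 : Module.Finite A (LocCoh.H (maximalIdeal A) 1 (A ⧸ Ideal.span {f})))
    (N : Type u) [AddCommGroup N] [Module A N] [Module.Finite A N] (hN : ∀ x : N, f • x = 0)
    (hsep : ∀ p : PrimeSpectrum A, f ∈ p.asIdeal → p ≠ closedPoint A →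
      ∀ x : N, (∀ φ : N →ₗ[A] Formal2.quotPow A (Ideal.span {f}) A 0, φ x = 0) → ∃ t ∉ p.asIdeal, t • x = 0) :
    Module.Finite A (LocCoh.H (maximalIdeal A) 1 N) := by
  let U := LocCoh.puncturedOpen A (maximalIdeal A)
  let R₀ := Formal2.quotPow A (Ideal.span {f}) A 0
  have hh : ∀ P : Submodule A A, P = Ideal.span {f} → Module.Finite A (LocCoh.H (maximalIdeal A) 1 (A ⧸ P)) := by
    rintro P rfl; exact h1
  haveI : Module.Finite A (sec U (ModuleCat.of A R₀)) :=
    finite_sec_zero A f (maximalIdeal A) (hh _ (by rw [smul_eq_mul, Ideal.mul_top]))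
  obtain ⟨r, π, hπ⟩ := Module.Finite.exists_fin' A N
  let ev : (N →ₗ[A] R₀) →ₗ[A] (Fin r → R₀) := LinearMap.pi fun j => LinearMap.applyₗ (π (Pi.single j 1))
  have hev : Function.Injective ev := fun φ ψ h => by
    refine LinearMap.ext fun x => ?_
    obtain ⟨v, rfl⟩ := hπ x
    refine LinearMap.congr_fun (LinearMap.pi_ext' fun j => LinearMap.ext_ring ?_ : φ.comp π = ψ.comp π) v
    exact congrFun h j
  haveI : Module.Finite A (N →ₗ[A] R₀) := Module.Finite.of_injective ev hev
  obtain ⟨G, hG⟩ := Module.Finite.fg_top (R := A) (M := N →ₗ[A] R₀)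
  let Φ : sec U (ModuleCat.of A N) →ₗ[A] (G → sec U (ModuleCat.of A R₀)) :=
    LinearMap.pi fun φ => (secMap U (ModuleCat.ofHom φ.1)).hom
  have hsecinj : Function.Injective Φ := (injective_iff_map_eq_zero _).2 fun s hs => by
    let ι' := {g : A // g ∈ maximalIdeal A}
    have hle : ∀ i : ι', D i.1 ≤ U := fun i r hr h => hr (h i.2)
    have hcov : U ≤ ⨆ i : ι', D i.1 := fun r hr => by
      obtain ⟨g, hg, hgr⟩ := SetLike.not_le_iff_exists.1 (show ¬ maximalIdeal A ≤ r.asIdeal from hr)
      exact Opens.mem_iSup.2 ⟨⟨g, hg⟩, hgr⟩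
    refine (modulesSpecToSheaf.obj (tilde (R := CommRingCat.of A) (ModuleCat.of A N))).eq_of_locally_eq'
      (fun i : ι' => D i.1) U (fun i => homOfLE (hle i)) hcov _ _ fun i => ?_
    show res (hle i) _ s = res (hle i) (ModuleCat.of A N) 0
    rw [map_zero]
    obtain ⟨k, x, hx⟩ := exists_toOpen i.1 (ModuleCat.of A N) (res (hle i) _ s)
    have hφ : ∀ φ : G, ∃ l : ℕ, i.1 ^ l • φ.1 x = 0 := fun φ => by
      refine exists_pow_toOpen i.1 (ModuleCat.of A R₀) ?_
      rw [show φ.1 x = (ModuleCat.ofHom φ.1).hom x from rfl, ← secMap_toOpen, ← hx, map_smul, ← secMap_res,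
        show (secMap U (ModuleCat.ofHom φ.1)).hom s = 0 from congrFun hs φ, map_zero, smul_zero]
    choose l hl using hφ
    let L := Finset.univ.sup l
    have hall : ∀ φ : N →ₗ[A] R₀, φ (i.1 ^ L • x) = 0 := fun φ => by
      have hv : φ ∈ Submodule.span A (G : Set (N →ₗ[A] R₀)) := hG ▸ Submodule.mem_top
      induction hv using Submodule.span_induction with
      | mem v hv =>
        obtain ⟨e, he⟩ := Nat.exists_eq_add_of_le (Finset.le_sup (f := l) (Finset.mem_univ (⟨v, hv⟩ : G)) : l ⟨v, hv⟩ ≤ L)
        rw [map_smul, show L = Finset.univ.sup l from rfl, he, add_comm (l _) e, pow_add i.1, mul_smul, hl ⟨v, hv⟩, smul_zero]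
      | zero => rfl
      | add a b _ _ ha hb => rw [LinearMap.add_apply, ha, hb, add_zero]
      | smul c a _ ha => rw [LinearMap.smul_apply, ha, smul_zero]
    let J : Ideal A := LinearMap.ker (LinearMap.toSpanSingleton A N (i.1 ^ L • x))
    have hmem : ∀ {a : A}, a • (i.1 ^ L • x) = 0 → a ∈ J := fun h => h
    have hrad : i.1 ∈ J.radical := by
      rw [Ideal.radical_eq_sInf]
      refine Submodule.mem_sInf.2 fun P hP => ?_
      obtain ⟨hJP, hPp⟩ : J ≤ P ∧ Ideal.IsPrime P := hP
      by_contra hgP
      by_cases hfP : f ∈ P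
      · obtain ⟨t, ht, htx⟩ := hsep ⟨P, hPp⟩ hfP (fun h => hgP (by
          have := congrArg PrimeSpectrum.asIdeal h
          change P = maximalIdeal A at this
          rw [this]
          exact i.2)) _ hall
        exact ht (hJP (hmem htx))
      · exact hfP (hJP (hmem (hN _)))
    obtain ⟨m, hm⟩ := hrad
    have hm' : i.1 ^ m • i.1 ^ L • x = 0 := hm
    refine (smul_bij_D _ _ dvd_rfl _ (m + L + k)).1 ?_
    change i.1 ^ (m + L + k) • _ = i.1 ^ (m + L + k) • _
    rw [smul_zero, pow_add, mul_smul, hx, ← map_smul, pow_add, mul_smul, hm', map_zero]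
  haveI : Module.Finite A (sec U (ModuleCat.of A N)) := Module.Finite.of_injective Φ hsecinj
  obtain ⟨-, ⟨c⟩⟩ := Groth.L04.Koszul.Cech.exists_toOpen_punctured (maximalIdeal A) (ModuleCat.of A N)
  exact Module.Finite.equiv c

end Groth.L27.LefNbhd
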