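import Mathlib.Topology.Irreducible
import Mathlib.Topology.NoetherianSpace
import Mathlib.Topology.Connected.Clopen

/-!
# Clopens near a closed subset, one irreducible component at a time
-/

set_option autoImplicit false
universe u v

open TopologicalSpace

namespace Groth.L27.LefNbhd

variable {E : Type u} {X : Type v} [TopologicalSpace E] [TopologicalSpace X]

theorem relClopen_of_closed_pieces {T C C' : Set E} (hC : IsClosed C) (hC' : IsClosed C') (hcov : T ⊆ C ∪ C')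
    (hdisj : T ∩ (C ∩ C') = ∅) : IsClopen ((Subtype.val : T → E) ⁻¹' C) := by
  refine ⟨hC.preimage continuous_subtype_val, ?_⟩
  have h : ((Subtype.val : T → E) ⁻¹' C) = ((Subtype.val : T → E) ⁻¹' C')ᶜ := by
    ext ⟨z, hz⟩
    simp only [Set.mem_preimage, Set.mem_compl_iff]
    exact ⟨fun h h' => (Set.eq_empty_iff_forall_notMem.1 hdisj z) ⟨hz, h, h'⟩, fun h => (hcov hz).resolve_right h⟩
  rw [h]
  exact (hC'.preimage continuous_subtype_val).isOpen_compl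

/-- If every irreducible component meets `g ⁻¹' S` in a preconnected set, clopens of `g ⁻¹' S` extend to a
neighbourhood, for a closed map `g`. -/
theorem exists_nbhd_clopen [NoetherianSpace E] (g : E → X) (hg : IsClosedMap g) (S : Set X)
    (hZ : ∀ Z ∈ irreducibleComponents E, _root_.IsPreconnected (Z ∩ g ⁻¹' S)) (C₀ : Set E)
    (hC₀ : IsClopen ((Subtype.val : (g ⁻¹' S) → E) ⁻¹' C₀)) :
    ∃ O : Set X, IsOpen O ∧ S ⊆ O ∧ ∃ C : Set E, IsClopen ((Subtype.val : (g ⁻¹' O) → E) ⁻¹' C) ∧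
      ∀ z, g z ∈ S → (z ∈ C ↔ z ∈ C₀) := by
  classical
  have hfin := NoetherianSpace.finite_irreducibleComponents (α := E)
  let 𝒵 := irreducibleComponents E
  let inC : Set (Set E) := {Z ∈ 𝒵 | (Z ∩ g ⁻¹' S).Nonempty ∧ Z ∩ g ⁻¹' S ⊆ C₀}
  let outC : Set (Set E) := {Z ∈ 𝒵 | (Z ∩ g ⁻¹' S).Nonempty ∧ Z ∩ g ⁻¹' S ⊆ C₀ᶜ}
  let away : Set (Set E) := {Z ∈ 𝒵 | Z ∩ g ⁻¹' S = ∅}
  let C := ⋃₀ inC
  let C' := ⋃₀ outC
  let R := ⋃₀ away
  have hcl : ∀ 𝒜 : Set (Set E), 𝒜 ⊆ 𝒵 → IsClosed (⋃₀ 𝒜) := fun 𝒜 h => by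
    rw [Set.sUnion_eq_biUnion]
    exact (hfin.subset h).isClosed_biUnion fun Z hZ => isClosed_of_mem_irreducibleComponents Z (h hZ)
  have hC : IsClosed C := hcl inC fun Z hZ => hZ.1
  have hC' : IsClosed C' := hcl outC fun Z hZ => hZ.1
  have hR : IsClosed R := hcl away fun Z hZ => hZ.1
  have hcov : ∀ z, z ∈ C ∨ z ∈ C' ∨ z ∈ R := by
    intro z
    let Z := irreducibleComponent z
    have hzZ : z ∈ Z := mem_irreducibleComponent
    have hmem : Z ∈ 𝒵 := irreducibleComponent_mem_irreducibleComponents z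
    rcases Set.eq_empty_or_nonempty (Z ∩ g ⁻¹' S) with h | h
    · exact Or.inr (Or.inr ⟨Z, ⟨hmem, h⟩, hzZ⟩)
    · let T := g ⁻¹' S
      have hpre : _root_.IsPreconnected ((Subtype.val : T → E) ⁻¹' Z) := by
        rw [← Topology.IsInducing.subtypeVal.isPreconnected_image, Subtype.image_preimage_coe, Set.inter_comm]
        exact hZ Z hmem
      obtain ⟨w, hwZ, hwS⟩ := h
      by_cases hw : w ∈ C₀
      · refine Or.inl ⟨Z, ⟨hmem, ⟨w, hwZ, hwS⟩, fun y hy => ?_⟩, hzZ⟩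
        exact hpre.subset_isClopen hC₀ ⟨⟨w, hwS⟩, hwZ, hw⟩ (show (⟨y, hy.2⟩ : T) ∈ _ from hy.1)
      · refine Or.inr (Or.inl ⟨Z, ⟨hmem, ⟨w, hwZ, hwS⟩, fun y hy => ?_⟩, hzZ⟩)
        exact hpre.subset_isClopen hC₀.compl ⟨⟨w, hwS⟩, hwZ, hw⟩ (show (⟨y, hy.2⟩ : T) ∈ _ from hy.1)
  let bad := C ∩ C' ∪ R
  have hbad : IsClosed bad := (hC.inter hC').union hR
  have hS : ∀ z, g z ∈ S → z ∉ bad := by
    rintro z hz (⟨⟨Z, hZin, hzZ⟩, ⟨Z', hZout, hzZ'⟩⟩ | ⟨Z, hZaway, hzZ⟩)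
    · exact hZout.2.2 ⟨hzZ', hz⟩ (hZin.2.2 ⟨hzZ, hz⟩)
    · exact (Set.eq_empty_iff_forall_notMem.1 hZaway.2 z) ⟨hzZ, hz⟩
  refine ⟨(g '' bad)ᶜ, (hg bad hbad).isOpen_compl, ?_, C, relClopen_of_closed_pieces hC hC' ?_ ?_, fun z hz => ?_⟩
  · rintro x hx ⟨z, hz, rfl⟩
    exact hS z hx hz
  · intro z hz
    rcases hcov z with h | h | h
    · exact Or.inl h
    · exact Or.inr h
    · exact absurd ⟨z, Or.inr h, rfl⟩ hz
  · exact Set.eq_empty_iff_forall_notMem.2 fun z hz => hz.1 ⟨z, Or.inl hz.2, rfl⟩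
  · constructor
    · rintro ⟨Z, hZin, hzZ⟩
      exact hZin.2.2 ⟨hzZ, hz⟩
    · intro h0
      rcases hcov z with h | h | h
      · exact h
      · obtain ⟨Z, hZout, hzZ⟩ := h
        exact absurd h0 (hZout.2.2 ⟨hzZ, hz⟩)
      · exact absurd (Or.inr h) (hS z hz)

end Groth.L27.LefNbhd
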