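import Groth.Agent.L13.Purity.Compl
import Groth.Agent.L13.FEtLeff.Extend

/-! Extendability of covers of a punctured spectrum descends along flat local maps of depth two. -/

set_option autoImplicit false
set_option linter.style.haveILetI false
set_option backward.isDefEq.respectTransparency.types false

universe u

open CategoryTheory CategoryTheory.Limits AlgebraicGeometry TopologicalSpace
open Groth.L13.Purity Groth.L13.Purity.Compl

namespace Groth.L27.PurityFlat

variable (A : Type u) [CommRing A] [IsNoetherianRing A] [IsLocalRing A]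

theorem exists_model_flat {Ah : Type u} [CommRing Ah] [Algebra A Ah] [IsNoetherianRing Ah] [Module.FaithfullyFlat A Ah]
    {W WP Y' : Scheme.{u}} [AlgebraicGeometry.IsNoetherian W] [AlgebraicGeometry.IsNoetherian WP]
    [IsAffine Y'] (w : W ⟶ Spec (CommRingCat.of A))
    (y : Y' ⟶ Spec (CommRingCat.of Ah)) [IsFinite y] [Etale y]
    (a : WP ⟶ W) (bb : WP ⟶ Spec (CommRingCat.of Ah))
    (H : IsPullback a bb w (Spec.map (CommRingCat.ofHom (algebraMap A Ah))))
    (j : WP ⟶ Y') [IsOpenImmersion j] (hj : j ≫ y = bb)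
    (hjb : Function.Bijective j.appTop) :
    letI : Algebra A Γ(W, w ⁻¹ᵁ ⊤) := ((Scheme.ΓSpecIso (CommRingCat.of A)).inv ≫ w.app ⊤).hom.toAlgebra
    Module.Finite A Γ(W, w ⁻¹ᵁ ⊤) ∧ Algebra.Etale A Γ(W, w ⁻¹ᵁ ⊤) := by
  classical
  let X := Spec (CommRingCat.of A)
  let Xh := Spec (CommRingCat.of Ah)
  let sp : Xh ⟶ X := Spec.map (CommRingCat.ofHom (algebraMap A Ah))
  let U : X.Opens := FEt.puncturedSpec A
  -- rings
  let C := Γ(W, w ⁻¹ᵁ ⊤)
  let C' := Γ(WP, ⊤)
  let B := Γ(Y', ⊤)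
  let iA := (Scheme.ΓSpecIso (CommRingCat.of A)).inv
  let iH := (Scheme.ΓSpecIso (CommRingCat.of Ah)).inv
  letI : Algebra A C := (iA ≫ w.app ⊤).hom.toAlgebra
  letI : Algebra Ah B := (iH ≫ y.appTop).hom.toAlgebra
  letI : Algebra Ah C' := (iH ≫ bb.appTop).hom.toAlgebra
  letI : Algebra A B := (CommRingCat.ofHom (algebraMap A Ah) ≫ iH ≫ y.appTop).hom.toAlgebra
  letI : Algebra A C' := (CommRingCat.ofHom (algebraMap A Ah) ≫ iH ≫ bb.appTop).hom.toAlgebra
  letI : Algebra C C' := (a.appLE (w ⁻¹ᵁ ⊤) ⊤ le_top).hom.toAlgebra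
  haveI : IsScalarTower A Ah B := IsScalarTower.of_algebraMap_eq' rfl
  haveI : IsScalarTower A Ah C' := IsScalarTower.of_algebraMap_eq' rfl
  have hsp : CommRingCat.ofHom (algebraMap A Ah) ≫ iH = iA ≫ sp.appTop :=
    Scheme.ΓSpecIso_inv_naturality _
  have hsquare : iA ≫ w.app ⊤ ≫ a.appLE (w ⁻¹ᵁ ⊤) ⊤ le_top = CommRingCat.ofHom (algebraMap A Ah) ≫ iH ≫ bb.appTop := by
    rw [← Category.assoc (CommRingCat.ofHom _), hsp, Category.assoc, ← Scheme.Hom.comp_appTop]
    refine congrArg (iA ≫ ·) ?_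
    have h0 : (a ≫ w).appTop = (bb ≫ sp).appTop := by rw [H.w]
    rw [← h0, Scheme.Hom.comp_appTop]
    congr 1
    exact Scheme.Hom.appLE_eq_app (f := a) (U := w ⁻¹ᵁ ⊤)
  haveI : IsScalarTower A C C' := IsScalarTower.of_algebraMap_eq' (congrArg CommRingCat.Hom.hom hsquare).symm
  haveI : Flat sp := (HasRingHomProperty.Spec_iff (P := @Flat)).2 (RingHom.flat_algebraMap_iff.2 inferInstance)
  haveI : Algebra.IsPushout A C Ah C' := by
    have hiso := isIso_pushoutSection_of_isQuasiSeparated_of_flat_right H (US := ⊤) (UT := ⊤) (UX := w ⁻¹ᵁ ⊤)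
      le_top le_rfl (UY := ⊤) (by ext; simp) (isAffineOpen_top _) (isAffineOpen_top _)
      (NoetherianSpace.isCompact _) (IsQuasiSeparated.of_quasiSeparatedSpace _)
    rw [isIso_pushoutSection_iff] at hiso
    simp only [Scheme.Hom.appLE_eq_app] at hiso
    refine CommRingCat.isPushout_iff_isPushout.1 ?_
    refine hiso.of_iso (Scheme.ΓSpecIso (CommRingCat.of A)) (Iso.refl _) (Scheme.ΓSpecIso (CommRingCat.of Ah)) (Iso.refl _) ?_ ?_ ?_ ?_
    · simp [RingHom.algebraMap_toAlgebra, iA]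
      erw [Category.comp_id]
      exact ((Scheme.ΓSpecIso (CommRingCat.of A)).hom_inv_id_assoc (w.app ⊤)).symm
    · exact (Scheme.ΓSpecIso_naturality _)
    · simp [RingHom.algebraMap_toAlgebra]; rfl
    · simp [RingHom.algebraMap_toAlgebra, iH]
      exact Scheme.Hom.appLE_eq_app (f := bb) (U := ⊤)
  haveI : Algebra.IsPushout A Ah C C' := Algebra.IsPushout.symm inferInstance
  haveI : Module.Finite Ah B := RingHom.finite_algebraMap.1
    ((Scheme.Hom.finite_appTop y).comp (RingHom.Finite.of_surjective _ (ConcreteCategory.bijective_of_isIso iH).2))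
  haveI : Algebra.Etale Ah B := RingHom.etale_algebraMap.1 (RingHom.Etale.stableUnderComposition _ _
    (RingHom.Etale.of_bijective (ConcreteCategory.bijective_of_isIso iH)) (HasRingHomProperty.appTop @Etale y inferInstance))
  let ρ : B →ₐ[Ah] C' :=
    { j.appTop.hom with
      commutes' := fun r => by
        show (iH ≫ y.appTop ≫ j.appTop).hom r = (iH ≫ bb.appTop).hom r
        rw [← Scheme.Hom.comp_appTop, hj] }
  have hρ : Function.Bijective ρ := hjb
  let eBT : B ≃ₐ[Ah] TensorProduct A Ah C :=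
    (AlgEquiv.ofBijective ρ hρ).trans (Algebra.IsPushout.equiv A Ah C C').symm
  haveI : Module.Finite Ah (TensorProduct A Ah C) := Module.Finite.equiv eBT.toLinearEquiv
  haveI : Algebra.Etale Ah (TensorProduct A Ah C) := Algebra.Etale.of_equiv eBT
  exact ⟨Module.Finite.of_finite_tensorProduct_of_faithfullyFlat Ah,
    Algebra.Etale.of_etale_tensorProduct_of_faithfullyFlat Ah⟩

set_option maxHeartbeats 4000000 in
theorem exists_extension_of_flat {Ah : Type u} [CommRing Ah] [Algebra A Ah] [IsNoetherianRing Ah] [IsLocalRing Ah]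
    [IsLocalHom (algebraMap A Ah)] [Module.Flat A Ah]
    (hcl : ∀ x : PrimeSpectrum Ah, PrimeSpectrum.comap (algebraMap A Ah) x = IsLocalRing.closedPoint A →
      x = IsLocalRing.closedPoint Ah)
    (hdep : (2 : ℕ∞) ≤ LocCoh.depth Ah Ah)
    (V : FEt.Cat (FEt.puncturedSpec A : Scheme.{u}))
    (Y' : FEt.Cat (Spec (CommRingCat.of Ah)))
    (e : (FEt.restrict (pullback.snd (FEt.puncturedSpec A).ι
        (Spec.map (CommRingCat.ofHom (algebraMap A Ah))))).obj Y' ≅
      (FEt.restrict (pullback.fst (FEt.puncturedSpec A).ι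
        (Spec.map (CommRingCat.ofHom (algebraMap A Ah))))).obj V) :
    ∃ Y : FEt.Cat (Spec (CommRingCat.of A)),
      Nonempty ((FEt.restrict (FEt.puncturedSpec A).ι).obj Y ≅ V) := by
  classical
  let X := Spec (CommRingCat.of A)
  let Xh := Spec (CommRingCat.of Ah)
  let sp : Xh ⟶ X := Spec.map (CommRingCat.ofHom (algebraMap A Ah))
  let U : X.Opens := FEt.puncturedSpec A
  let P := pullback U.ι sp
  let f1 : P ⟶ U.toScheme := pullback.fst U.ι sp
  let f2 : P ⟶ Xh := pullback.snd U.ι sp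
  let W := V.left
  haveI : IsFinite V.hom := V.prop.1
  haveI : Etale V.hom := V.prop.2
  let w : W ⟶ X := V.hom ≫ U.ι
  haveI : LocallyOfFiniteType w := inferInstance
  haveI : IsLocallyNoetherian W := LocallyOfFiniteType.isLocallyNoetherian w
  haveI : CompactSpace U.toScheme := isCompact_iff_compactSpace.1 (NoetherianSpace.isCompact _)
  haveI : CompactSpace ((Functor.fromPUnit U.toScheme).obj V.right) := (inferInstance : CompactSpace U.toScheme)
  haveI : CompactSpace W := QuasiCompact.compactSpace_of_compactSpace V.hom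
  haveI : AlgebraicGeometry.IsNoetherian W := {}
  let WP := ((FEt.restrict f1).obj V).left
  let a : WP ⟶ W := pullback.fst V.hom f1
  let b : WP ⟶ P := pullback.snd V.hom f1
  have H : IsPullback a (b ≫ f2) w sp :=
    (IsPullback.of_hasPullback V.hom f1).paste_vert (IsPullback.of_hasPullback U.ι sp)
  let el : WP ⟶ pullback Y'.hom f2 := e.inv.left
  let j : WP ⟶ Y'.left := el ≫ pullback.fst Y'.hom f2
  haveI : IsIso e.inv.left :=
    ((MorphismProperty.Over.forget _ _ _ ⋙ Over.forget _).mapIso e.symm).isIso_hom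
  haveI : IsIso el := (inferInstance : IsIso e.inv.left)
  haveI : IsFinite Y'.hom := Y'.prop.1
  haveI : Etale Y'.hom := Y'.prop.2
  haveI : IsOpenImmersion j := inferInstance
  have hj : j ≫ Y'.hom = b ≫ f2 := by
    show (el ≫ _) ≫ _ = _
    rw [Category.assoc, pullback.condition, ← Category.assoc]
    exact congrArg (· ≫ f2) (MorphismProperty.Over.w e.inv)
  haveI : IsAffine ((Functor.fromPUnit Xh).obj Y'.right) := (inferInstance : IsAffine Xh)
  haveI : IsAffine Y'.left := isAffine_of_isAffineHom Y'.hom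
  haveI : IsAffine ((𝟭 Scheme).obj Y'.left) := (inferInstance : IsAffine Y'.left)
  haveI : IsLocallyNoetherian Y'.left := LocallyOfFiniteType.isLocallyNoetherian (Y := Xh) Y'.hom
  haveI : AlgebraicGeometry.IsNoetherian Y'.left := {}
  haveI : NoetherianSpace WP := j.isOpenEmbedding.isInducing.noetherianSpace
  haveI : IsLocallyNoetherian WP := LocallyOfFiniteType.isLocallyNoetherian j
  haveI : AlgebraicGeometry.IsNoetherian WP := {}
  letI : Algebra A Γ(W, w ⁻¹ᵁ ⊤) := ((Scheme.ΓSpecIso (CommRingCat.of A)).inv ≫ w.app ⊤).hom.toAlgebra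
  haveI : Module.FaithfullyFlat A Ah := Module.FaithfullyFlat.of_flat_of_isLocalHom
  have hjb : Function.Bijective j.appTop := by
    let UP : Xh.Opens := sp ⁻¹ᵁ U
    have hUP : ∀ x : Xh, x ∉ UP → (2 : ℕ∞) ≤ LocCoh.depth (Xh.presheaf.stalk x) (Xh.presheaf.stalk x) := by
      intro x hx
      obtain rfl : x = IsLocalRing.closedPoint Ah := hcl x (not_not.1 hx)
      exact hdep.trans_eq (Groth.L06.FlatFibre.depth_eq_of_ringEquiv
        (stalkClosedPointIso (CommRingCat.of Ah)).commRingCatIsoToRingEquiv.symm).symm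
    have hb := Groth.L13.FEtLeff.bijective_appTop_preimage hUP (Z := Y'.left) Y'.hom
    have hr : Set.range j = ((Y'.hom ⁻¹ᵁ UP : Y'.left.Opens) : Set Y'.left) := by
      ext η
      constructor
      · rintro ⟨q, rfl⟩
        show sp (Y'.hom (j q)) ∈ U
        rw [← Scheme.Hom.comp_apply j, hj, ← Scheme.Hom.comp_apply, Category.assoc,
          ← pullback.condition (f := U.ι) (g := sp)]
        exact ((b ≫ f1) q).2
      · intro hη2
        have hη4 : η ∈ Set.range (pullback.fst Y'.hom f2) := by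
          rw [IsOpenImmersion.range_pullbackFst]
          show Y'.hom η ∈ Set.range (pullback.snd U.ι sp)
          rw [IsOpenImmersion.range_pullbackSnd, Scheme.Opens.opensRange_ι]
          exact hη2
        obtain ⟨q', hq'⟩ := hη4
        obtain ⟨q'', rfl⟩ := el.surjective q'
        exact ⟨q'', by rw [← hq']; rfl⟩
    let ej := IsOpenImmersion.isoOfRangeEq j (Y'.hom ⁻¹ᵁ UP).ι (by rw [Scheme.Opens.range_ι, hr])
    have he : j = ej.hom ≫ (Y'.hom ⁻¹ᵁ UP).ι := (IsOpenImmersion.isoOfRangeEq_hom_fac _ _ _).symm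
    rw [he, Scheme.Hom.comp_appTop]
    exact (ConcreteCategory.bijective_of_isIso (Scheme.Γ.map ej.hom.op)).comp hb
  obtain ⟨hSfin, hSet⟩ := exists_model_flat A (Ah := Ah) w Y'.hom a (b ≫ f2) H j hj hjb
  obtain ⟨s0, hs0⟩ := (IsLocalRing.maximalIdeal A).fg_of_isNoetherianRing
  let S : Type u := Γ(W, w ⁻¹ᵁ ⊤)
  let φ : S →ₐ[A] Γ(W, w ⁻¹ᵁ ⊤) := AlgHom.id A _
  have hSiso : ∀ h ∈ s0, (∀ c : Γ(W, w ⁻¹ᵁ ⊤), ∃ n : ℕ, ∃ x : S, φ x = h ^ n • c) ∧
      ∀ x : S, φ x = 0 → ∃ n : ℕ, h ^ n • x = 0 := fun h _ =>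
    ⟨fun c => ⟨0, c, ((one_smul A c).symm.trans (congrArg (· • c) (pow_zero h).symm) :)⟩,
      fun x hx => ⟨0, (congrArg (· • x) (pow_zero h)).trans ((one_smul A x).trans hx)⟩⟩
  let iA := (Scheme.ΓSpecIso (CommRingCat.of A)).inv
  have hsm : ∀ h ∈ s0, h ∈ IsLocalRing.maximalIdeal A := fun h hh => hs0 ▸ Ideal.subset_span hh
  have hbo : ∀ h : A, X.basicOpen (iA.hom h) = PrimeSpectrum.basicOpen h := fun h => basicOpen_eq_of_affine (R := CommRingCat.of A) h
  have hUle : ∀ h ∈ s0, X.basicOpen (iA.hom h) ≤ U := by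
    intro h hh
    rw [hbo]
    intro q hq
    show q ≠ IsLocalRing.closedPoint A
    rintro rfl
    exact hq (hsm h hh)
  let hA := (Scheme.ΓSpecIso (CommRingCat.of A)).hom
  letI : Algebra Γ(X, ⊤) S := ((algebraMap A S).comp hA.hom).toAlgebra
  haveI : Module.Finite Γ(X, ⊤) S := RingHom.finite_algebraMap.1
    ((RingHom.finite_algebraMap.2 hSfin).comp (RingHom.Finite.of_surjective _ (ConcreteCategory.bijective_of_isIso hA).2))
  haveI : Algebra.Etale Γ(X, ⊤) S := RingHom.etale_algebraMap.1 (RingHom.Etale.stableUnderComposition _ _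
    (RingHom.Etale.of_bijective (ConcreteCategory.bijective_of_isIso hA)) (RingHom.etale_algebraMap.2 hSet))
  let s := s0.image iA.hom
  have hw : w ⁻¹ᵁ U = ⊤ := by rw [Scheme.Hom.comp_preimage, U.ι_preimage_self]; rfl
  haveI hwaff : ∀ h : s, IsAffine (w ⁻¹ᵁ X.basicOpen h.1).toScheme := by
    rintro ⟨h, hh⟩
    obtain ⟨h0, hh0, rfl⟩ := Finset.mem_image.1 hh
    show IsAffineOpen _
    rw [Scheme.Hom.comp_preimage]
    exact (((isAffineOpen_top X).basicOpen _).preimage_of_isOpenImmersion U.ι (by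
      rw [Scheme.Opens.opensRange_ι]; exact hUle h0 hh0)).preimage V.hom
  have hrel : ∀ r : A, (w.app ⊤).hom (iA.hom r) = algebraMap A Γ(W, w ⁻¹ᵁ ⊤) r := fun r => rfl
  obtain ⟨Y, y, y', i, hy', hyp, hio, hiy, hir⟩ := Spread.exists_chart w (U' := U) (D := ⊤) (isAffineOpen_top X) hw s
    (fun q _ hq => by
      have : ¬ (Ideal.span (s0 : Set A) ≤ q.asIdeal) := by
        rw [show Ideal.span (s0 : Set A) = _ from hs0]
        intro hle
        exact hq (PrimeSpectrum.ext ((IsLocalRing.maximalIdeal.isMaximal A).eq_of_le q.isPrime.ne_top hle).symm)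
      rw [Ideal.span_le] at this
      obtain ⟨h, hh, hhq⟩ := Set.not_subset.1 this
      exact ⟨iA.hom h, Finset.mem_image_of_mem _ hh, by rw [hbo]; exact hhq⟩)
    (fun h hh => by
      obtain ⟨h0, hh0, rfl⟩ := Finset.mem_image.1 hh
      exact hUle h0 hh0)
    1 S φ.toRingHom
    (by
      ext r
      show φ (algebraMap A S (hA.hom r)) = _
      rw [φ.commutes]
      exact congrArg (w.app ⊤).hom (congr($((Scheme.ΓSpecIso (CommRingCat.of A)).hom_inv_id) r)))
    (fun h hh c => by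
      obtain ⟨h0, hh0, rfl⟩ := Finset.mem_image.1 hh
      obtain ⟨n, x, hx⟩ := (hSiso h0 hh0).1 c
      refine ⟨n, x, ?_⟩
      rw [one_mul, ← map_pow, hrel]
      exact hx.trans (Algebra.smul_def _ _))
    (fun h hh x hx => by
      obtain ⟨h0, hh0, rfl⟩ := Finset.mem_image.1 hh
      obtain ⟨n, hn⟩ := (hSiso h0 hh0).2 x hx
      refine ⟨n, ?_⟩
      rw [one_mul, Algebra.smul_def, ← map_pow]
      show algebraMap A S (hA.hom (iA.hom (h0 ^ n))) * x = 0
      rw [show hA.hom (iA.hom (h0 ^ n)) = h0 ^ n from congr($((Scheme.ΓSpecIso (CommRingCat.of A)).inv_hom_id) (h0 ^ n)),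
        ← Algebra.smul_def]
      exact hn)
  haveI := hio
  have hext := Spread.ext_sup U V.hom (U' := U) le_rfl w (𝟙 W) hw ((Spread.prop_restrict_iff _ _ V.hom rfl).2 V.prop)
    (Spread.isPullback_of_fac w U V.hom rfl).flip y y' hy' hyp i hiy hir
  refine exists_iso_of_ext_top U V ?_
  have htop : U ⊔ X.basicOpen 1 = ⊤ := eq_top_iff.2 fun q _ => Or.inr (by rw [Scheme.basicOpen_of_isUnit _ isUnit_one]; trivial)
  rw [← htop]
  exact hext

end Groth.L27.PurityFlat
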