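import Groth.Agent.L27.Lefschetz.PurityRetract
import Groth.Agent.L13.FEtLeff.PureIso
import Groth.Agent.L01.NagataComplete
import Mathlib.RingTheory.MvPowerSeries.Equiv
import Mathlib.RingTheory.AdicCompletion.AsTensorProduct
import Mathlib.RingTheory.PowerSeries.Inverse

/-! Purity of formal power series rings over local rings of depth two. -/

set_option autoImplicit false
set_option linter.style.haveILetI false
set_option maxSynthPendingDepth 3
set_option backward.isDefEq.respectTransparency false
set_option backward.isDefEq.respectTransparency.types false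

universe u

open IsLocalRing

attribute [local instance] HasDerivedCategory.standard

noncomputable section

namespace Groth.L27.PurityPS

theorem flat_mvPowerSeries (σ : Type) [Finite σ] (A : Type u) [CommRing A] [IsNoetherianRing A] :
    Module.Flat A (MvPowerSeries σ A) := by
  let P := MvPolynomial σ A
  let C := AdicCompletion (MvPolynomial.idealOfVars σ A) P
  haveI : Module.Flat P C := inferInstance
  haveI : IsScalarTower A P C := IsScalarTower.of_algebraMap_eq fun a => rfl
  haveI : Module.Flat A C := Module.Flat.trans A P C
  let e : C ≃ₐ[A] MvPowerSeries σ A := ((MvPowerSeries.toAdicCompletionAlgEquiv σ A).restrictScalars A).symm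
  exact Module.Flat.of_linearEquiv e.symm.toLinearEquiv

theorem isLocalHom_algebraMap (σ : Type) (A : Type u) [CommRing A] :
    IsLocalHom (algebraMap A (MvPowerSeries σ A)) :=
  ⟨fun a ha => by
    have := ha.map (MvPowerSeries.constantCoeff (σ := σ) (R := A))
    simpa [MvPowerSeries.algebraMap_apply] using this⟩

/-- Purity of power series in one variable. -/
theorem purityHolds_powerSeries (A : Type u) [CommRing A] [IsNoetherianRing A] [IsLocalRing A]
    (hA : (2 : ℕ∞) ≤ LocCoh.depth A A) : FEt.PurityHolds (PowerSeries A) := by
  haveI : Module.Flat A (PowerSeries A) := flat_mvPowerSeries Unit A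
  haveI : IsLocalHom (algebraMap A (PowerSeries A)) := isLocalHom_algebraMap Unit A
  haveI := Groth.L01.NagataComplete.isAdicComplete_span_X A
  let r : PowerSeries A →ₐ[A] A :=
    { PowerSeries.constantCoeff (R := A) with
      commutes' := fun a => by simp }
  let κ : PowerSeries A →+* PowerSeries (ResidueField A) := PowerSeries.map (residue A)
  have hmap : (maximalIdeal A).map (algebraMap A (PowerSeries A)) = RingHom.ker κ := by
    refine le_antisymm (Ideal.map_le_iff_le_comap.2 fun a ha => ?_) fun x hx => ?_
    · rw [Ideal.mem_comap, RingHom.mem_ker, PowerSeries.algebraMap_apply, PowerSeries.map_C]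
      show PowerSeries.C (residue A a) = 0
      rw [(residue_eq_zero_iff a).2 ha, map_zero]
    · obtain ⟨T, hT⟩ := IsNoetherian.noetherian (maximalIdeal A)
      have hc : ∀ i, PowerSeries.coeff i x ∈ Submodule.span A (Set.range fun t : T => (t : A)) := fun i => by
        rw [Subtype.range_coe_subtype, show {y | y ∈ T} = (T : Set A) from rfl, hT]
        rw [RingHom.mem_ker] at hx
        rw [← residue_eq_zero_iff, ← PowerSeries.coeff_map, hx, map_zero]
      choose a ha using fun i => (Submodule.mem_span_range_iff_exists_fun A).1 (hc i)
      have hxe : x = ∑ t : T, PowerSeries.C (t : A) * PowerSeries.mk fun i => a i t := by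
        ext i
        rw [map_sum, ← ha i]
        exact Finset.sum_congr rfl fun t _ => by
          rw [PowerSeries.coeff_C_mul, PowerSeries.coeff_mk, smul_eq_mul, mul_comm]
      rw [hxe]
      refine Ideal.sum_mem _ fun t _ => Ideal.mul_mem_right _ _ (Ideal.mem_map_of_mem _ ?_)
      rw [← hT]
      exact Submodule.subset_span t.2
  haveI : ((maximalIdeal A).map (algebraMap A (PowerSeries A))).IsPrime := by
    rw [hmap]; exact RingHom.ker_isPrime _
  refine PurityRetract.purityHolds_of_retraction (A := A) (PowerSeries.X : PowerSeries A) r ?_ ?_ ?_ hA ?_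
  · ext x
    rw [RingHom.mem_ker, Ideal.mem_span_singleton, PowerSeries.X_dvd_iff]
  · rw [IsLocalRing.mem_maximalIdeal]
    intro h
    exact not_isUnit_zero (PowerSeries.constantCoeff_X (R := A) ▸ h.map (PowerSeries.constantCoeff (R := A)))
  · refine mem_nonZeroDivisors_iff.2 ⟨fun x hx => PowerSeries.ext fun n => ?_, fun x hx => PowerSeries.ext fun n => ?_⟩
    · simpa [PowerSeries.coeff_succ_X_mul] using congrArg (PowerSeries.coeff (n + 1)) hx
    · simpa [PowerSeries.coeff_succ_mul_X] using congrArg (PowerSeries.coeff (n + 1)) hx
  · rw [hmap, RingHom.mem_ker, PowerSeries.map_X]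
    exact PowerSeries.X_ne_zero

/-- Purity of power series in several variables. -/
theorem purityHolds_mvPowerSeries (A : Type u) [CommRing A] [IsNoetherianRing A] [IsLocalRing A]
    (hA : (2 : ℕ∞) ≤ LocCoh.depth A A) (d : ℕ) (hd : 1 ≤ d) : FEt.PurityHolds (MvPowerSeries (Fin d) A) := by
  obtain ⟨n, rfl⟩ := Nat.exists_eq_add_of_le' hd
  let C := MvPowerSeries (Fin n) A
  haveI : Module.Flat A C := flat_mvPowerSeries (Fin n) A
  haveI : IsLocalHom (algebraMap A C) := isLocalHom_algebraMap (Fin n) A
  exact Groth.L13.FEtLeff.purityHolds_of_ringEquiv (MvPowerSeries.finSuccEquiv A n).symm.toRingEquiv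
    (purityHolds_powerSeries C (PurityRetract.two_le_depth_of_flat hA))

end Groth.L27.PurityPS
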