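import Groth.Agent.L27.Lefschetz.PurityFlat
import Groth.Agent.S9483
import Groth.Agent.S0261
import Groth.Agent.L13.FEtLeff.Descend
import Groth.Agent.L13.FEtLeff.GammaLocal
import Groth.Agent.L04.LC.Depth
import Mathlib.RingTheory.Ideal.KrullsHeightTheorem

/-! Purity of a local algebra with a retraction whose kernel is generated by a nonzerodivisor. -/

set_option autoImplicit false
set_option linter.style.haveILetI false
set_option maxSynthPendingDepth 3
set_option backward.isDefEq.respectTransparency false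
set_option backward.isDefEq.respectTransparency.types false

universe u

open CategoryTheory CategoryTheory.Limits AlgebraicGeometry TopologicalSpace IsLocalRing RingTheory.Sequence
open Groth.L13.FEtLeff (restrictFacIso)

attribute [local instance] HasDerivedCategory.standard

noncomputable section

namespace Groth.L27.PurityRetract

variable {A B : Type u} [CommRing A] [CommRing B] [Algebra A B]

/-- Restrictions along the two sides of a commutative square. -/
def sqIso {X Y Y' Z : Scheme.{u}} {f : X ⟶ Y} {g : Y ⟶ Z} {f' : X ⟶ Y'} {g' : Y' ⟶ Z} (h : f ≫ g = f' ≫ g') :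
    FEt.restrict g ⋙ FEt.restrict f ≅ FEt.restrict g' ⋙ FEt.restrict f' :=
  (restrictFacIso h).symm ≪≫ restrictFacIso rfl

theorem map_eq_of_iso {C D : Type*} [Category C] [Category D] {F G : C ⥤ D} (e : F ≅ G) {X Y : C} {a b : X ⟶ Y}
    (h : G.map a = G.map b) : F.map a = F.map b := by
  rw [← cancel_mono (e.hom.app Y), e.hom.naturality, e.hom.naturality, h]

theorem exists_regular [IsNoetherianRing A] [IsLocalRing A] (hA : (2 : ℕ∞) ≤ LocCoh.depth A A) :
    ∃ rs : List A, rs.length = 2 ∧ (∀ x ∈ rs, x ∈ maximalIdeal A) ∧ IsWeaklyRegular A rs := by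
  obtain ⟨rs, hlen, hrs, hI⟩ := Groth.L04.exists_of_le_idealDepth
    (Groth.L04.smul_top_ne_top_of_nontrivial (maximalIdeal.isMaximal A).ne_top)
    (show ((2 : ℕ) : ℕ∞) ≤ LocCoh.idealDepth (maximalIdeal A) A from hA)
  exact ⟨rs, hlen, hI, hrs⟩

theorem two_le_depth_of_flat [IsNoetherianRing A] [IsLocalRing A] [IsLocalRing B] [IsLocalHom (algebraMap A B)]
    [Module.Flat A B] (hA : (2 : ℕ∞) ≤ LocCoh.depth A A) : (2 : ℕ∞) ≤ LocCoh.depth B B := by
  obtain ⟨rs, hlen, hm, hrs⟩ := exists_regular hA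
  have h1 : IsWeaklyRegular B rs :=
    ((TensorProduct.rid A B).isWeaklyRegular_congr rs).1 (hrs.isWeaklyRegular_lTensor (M₂ := B))
  have h2 := Groth.L04.length_le_idealDepth ((isWeaklyRegular_map_algebraMap_iff B _ rs).2 h1)
    (I := maximalIdeal B) fun x hx => by
      obtain ⟨y, hy, rfl⟩ := List.mem_map.1 hx
      exact IsLocalRing.map_maximalIdeal_le (algebraMap A B) (Ideal.mem_map_of_mem _ (hm y hy))
  rw [List.length_map, hlen] at h2
  exact h2

variable [IsNoetherianRing B] [IsLocalRing A] [IsLocalRing B] [IsLocalHom (algebraMap A B)]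

/-- A prime strictly below a prime not containing `f` lies under a punctured point of `V(f)`. -/
theorem exists_mem_punctured (f : B) (hf : f ∈ maximalIdeal B) (P : Ideal B) [P.IsPrime] (hfP : f ∉ P)
    (P' : PrimeSpectrum B) (hP' : P'.asIdeal < P) :
    ∃ q : PrimeSpectrum B, P'.asIdeal ≤ q.asIdeal ∧ f ∈ q.asIdeal ∧ q ≠ closedPoint B := by
  by_contra! hc
  let R := B ⧸ P'.asIdeal
  let π := Ideal.Quotient.mk P'.asIdeal
  haveI : IsLocalRing R := IsLocalRing.of_surjective' π Ideal.Quotient.mk_surjective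
  have hcm : (maximalIdeal R).comap π = maximalIdeal B :=
    IsLocalRing.eq_maximalIdeal (Ideal.comap_isMaximal_of_surjective π Ideal.Quotient.mk_surjective)
  have hmin : maximalIdeal R ∈ (Ideal.span {π f}).minimalPrimes := by
    refine ⟨⟨inferInstance, (Ideal.span_singleton_le_iff_mem _).2 ?_⟩, fun Q hQ hle => ?_⟩
    · rw [← Ideal.mem_comap, hcm]; exact hf
    · haveI := hQ.1
      have hq := hc ⟨Q.comap π, Ideal.comap_isPrime π Q⟩
        (fun x hx => by show π x ∈ Q; rw [Ideal.Quotient.eq_zero_iff_mem.2 hx]; exact zero_mem _)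
        (hQ.2 (Ideal.mem_span_singleton_self _))
      have hq' : Q.comap π = maximalIdeal B := congrArg PrimeSpectrum.asIdeal hq
      intro x hx
      obtain ⟨y, rfl⟩ := Ideal.Quotient.mk_surjective x
      have : y ∈ Q.comap π := by rw [hq', ← hcm]; exact hx
      exact this
  haveI : (Ideal.span {π f}).IsPrincipal := ⟨⟨π f, rfl⟩⟩
  have h1 := Ideal.height_le_one_of_isPrincipal_of_mem_minimalPrimes (Ideal.span {π f}) _ hmin
  have hker : RingHom.ker π ≤ P := by rw [Ideal.mk_ker]; exact hP'.le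
  haveI : (P.map π).IsPrime := Ideal.map_isPrime_of_surjective Ideal.Quotient.mk_surjective hker
  have hPm : P.map π < maximalIdeal R := by
    refine lt_of_le_of_ne (IsLocalRing.le_maximalIdeal (Ideal.IsPrime.ne_top inferInstance)) fun he => hfP ?_
    have : (P.map π).comap π = maximalIdeal B := by rw [he, hcm]
    rw [Ideal.comap_map_of_surjective' π Ideal.Quotient.mk_surjective, sup_eq_left.2 hker] at this
    rw [this]
    exact hf
  have hbot : (⊥ : Ideal R) < P.map π := by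
    refine bot_lt_iff_ne_bot.2 fun he => ?_
    obtain ⟨x, hx, hx'⟩ := SetLike.exists_of_lt hP'
    exact hx' (Ideal.Quotient.eq_zero_iff_mem.1 (by
      have := Ideal.mem_map_of_mem π hx
      rwa [he] at this))
  have h2 := Ideal.height_strict_mono_of_isPrime hPm
  have h3 := Ideal.height_strict_mono_of_isPrime hbot
  generalize (maximalIdeal R).height = a at h1 h2
  generalize (P.map π).height = b at h2 h3
  generalize (⊥ : Ideal R).height = c at h3
  enat_to_nat
  omega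

omit [Algebra A B] in
/-- An isomorphism over the punctured hypersurface spreads to whatever lies in all its neighbourhoods. -/
theorem nonempty_iso_of_iso_special {B : Type u} [CommRing B] [IsNoetherianRing B] [IsLocalRing B] (f : B)
    (hf : f ∈ maximalIdeal B) [IsAdicComplete (Ideal.span {f}) B] (hnz : f ∈ nonZeroDivisors B)
    (hfin : Module.Finite B (LocCoh.H (maximalIdeal B) 1 (B ⧸ Ideal.span {f})))
    (W : (Spec (CommRingCat.of B)).Opens) (hW : W ≤ FEt.puncturedSpec B)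
    (u₀ : pullback (FEt.puncturedSpec B).ι (Spec.map (CommRingCat.ofHom (Ideal.Quotient.mk (Ideal.span {f})))) ⟶ (W : Scheme.{u}))
    (hu₀ : u₀ ≫ W.ι = pullback.fst (FEt.puncturedSpec B).ι (Spec.map (CommRingCat.ofHom (Ideal.Quotient.mk (Ideal.span {f})))) ≫ (FEt.puncturedSpec B).ι)
    (M N : FEt.Cat (W : Scheme.{u})) (i : (FEt.restrict u₀).obj M ≅ (FEt.restrict u₀).obj N)
    {P₀ : Scheme.{u}} (γ : P₀ ⟶ (W : Scheme.{u}))
    (hγ : ∀ (O : (Spec (CommRingCat.of B)).Opens)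
      (u : pullback (FEt.puncturedSpec B).ι (Spec.map (CommRingCat.ofHom (Ideal.Quotient.mk (Ideal.span {f})))) ⟶ (O : Scheme.{u})),
      u ≫ O.ι = pullback.fst (FEt.puncturedSpec B).ι (Spec.map (CommRingCat.ofHom (Ideal.Quotient.mk (Ideal.span {f})))) ≫ (FEt.puncturedSpec B).ι →
      Set.range (γ ≫ W.ι) ⊆ (O : Set (Spec (CommRingCat.of B)))) :
    Nonempty ((FEt.restrict γ).obj M ≅ (FEt.restrict γ).obj N) := by
  let SB := Spec (CommRingCat.of B)
  obtain ⟨hfull, -⟩ := Groth.Agent.S9483.result B f hf hnz hfin W hW u₀ hu₀ M N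
  obtain ⟨U₁, h₁, u₁, hu₁, φ, hφ⟩ := hfull i.hom
  have hu₁W := (show u₁ ≫ U₁.ι = (u₁ ≫ SB.homOfLE h₁) ≫ W.ι by rw [Category.assoc, Scheme.homOfLE_ι]).trans
    ((congrArg (· ≫ W.ι) hu₁).trans hu₀)
  let F := FEt.restrict (SB.homOfLE h₁)
  haveI : IsIso ((FEt.restrict u₁).map φ) := by rw [hφ]; infer_instance
  obtain ⟨hfull₁, -⟩ := Groth.Agent.S9483.result B f hf hnz hfin U₁ (h₁.trans hW) u₁ hu₁W (F.obj N) (F.obj M)
  obtain ⟨U₂, h₂, u₂, hu₂, ψ, hψ⟩ := hfull₁ (inv ((FEt.restrict u₁).map φ))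
  have hu₂W := (show u₂ ≫ U₂.ι = (u₂ ≫ SB.homOfLE h₂) ≫ U₁.ι by rw [Category.assoc, Scheme.homOfLE_ι]).trans
    ((congrArg (· ≫ U₁.ι) hu₂).trans hu₁W)
  let G := FEt.restrict (SB.homOfLE h₂)
  let c := MorphismProperty.Over.pullbackComp (P := FEt.prop) (Q := ⊤) u₂ (SB.homOfLE h₂) u₁ hu₂.symm
  let φ₂ : G.obj (F.obj M) ⟶ G.obj (F.obj N) := G.map φ
  have hφ₂ : (FEt.restrict u₂).map φ₂ = c.inv.app _ ≫ (FEt.restrict u₁).map φ ≫ c.hom.app _ :=
    ((congrArg (fun m => c.inv.app _ ≫ m) (c.hom.naturality φ)).trans (Iso.inv_hom_id_app_assoc c _ _)).symm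
  have hid₁ : (FEt.restrict u₂).map (φ₂ ≫ ψ) = (FEt.restrict u₂).map (𝟙 _) := by
    rw [Functor.map_comp, hφ₂, hψ, (FEt.restrict u₂).map_id, Category.assoc, Category.assoc]
    show c.inv.app _ ≫ (FEt.restrict u₁).map φ ≫ c.hom.app _ ≫ c.inv.app _ ≫ inv _ ≫ c.hom.app _ = _
    rw [Iso.hom_inv_id_app_assoc, IsIso.hom_inv_id_assoc]
    exact Iso.inv_hom_id_app c _
  have hid₂ : (FEt.restrict u₂).map (ψ ≫ φ₂) = (FEt.restrict u₂).map (𝟙 _) := by
    rw [Functor.map_comp, hφ₂, hψ, (FEt.restrict u₂).map_id, Category.assoc, Category.assoc]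
    show c.inv.app _ ≫ inv _ ≫ c.hom.app _ ≫ c.inv.app _ ≫ (FEt.restrict u₁).map φ ≫ c.hom.app _ = _
    rw [Iso.hom_inv_id_app_assoc, IsIso.inv_hom_id_assoc]
    exact Iso.inv_hom_id_app c _
  obtain ⟨-, hfaith⟩ := Groth.Agent.S9483.result B f hf hnz hfin U₂ (h₂.trans (h₁.trans hW)) u₂ hu₂W
    (G.obj (F.obj M)) (G.obj (F.obj M))
  obtain ⟨U₃, h₃, u₃, hu₃, hid₃⟩ := hfaith _ _ hid₁
  obtain ⟨-, hfaith'⟩ := Groth.Agent.S9483.result B f hf hnz hfin U₂ (h₂.trans (h₁.trans hW)) u₂ hu₂W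
    (G.obj (F.obj N)) (G.obj (F.obj N))
  obtain ⟨U₄, h₄, u₄, hu₄, hid₄⟩ := hfaith' _ _ hid₂
  have hu₃W := (show u₃ ≫ U₃.ι = (u₃ ≫ SB.homOfLE h₃) ≫ U₂.ι by rw [Category.assoc, Scheme.homOfLE_ι]).trans
    ((congrArg (· ≫ U₂.ι) hu₃).trans hu₂W)
  have hu₄W := (show u₄ ≫ U₄.ι = (u₄ ≫ SB.homOfLE h₄) ≫ U₂.ι by rw [Category.assoc, Scheme.homOfLE_ι]).trans
    ((congrArg (· ≫ U₂.ι) hu₄).trans hu₂W)
  let O : SB.Opens := U₃ ⊓ U₄
  let δ : P₀ ⟶ (O : Scheme.{u}) := IsOpenImmersion.lift O.ι (γ ≫ W.ι) (by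
    rw [Scheme.Opens.range_ι]
    exact fun x hx => ⟨hγ U₃ u₃ hu₃W hx, hγ U₄ u₄ hu₄W hx⟩)
  let R₃ : P₀ ⟶ (U₃ : Scheme.{u}) := δ ≫ SB.homOfLE inf_le_left
  let R₄ : P₀ ⟶ (U₄ : Scheme.{u}) := δ ≫ SB.homOfLE inf_le_right
  let γ₂ : P₀ ⟶ (U₂ : Scheme.{u}) := R₃ ≫ SB.homOfLE h₃
  have e₄ : R₄ ≫ SB.homOfLE h₄ = γ₂ := by simp [R₃, R₄, γ₂, Scheme.homOfLE_homOfLE]
  let iγ : (FEt.restrict γ₂).obj (G.obj (F.obj M)) ≅ (FEt.restrict γ₂).obj (G.obj (F.obj N)) :=
    { hom := (FEt.restrict γ₂).map φ₂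
      inv := (FEt.restrict γ₂).map ψ
      hom_inv_id := by
        rw [← Functor.map_comp]
        exact (map_eq_of_iso (restrictFacIso (rfl : R₃ ≫ SB.homOfLE h₃ = γ₂)) (congrArg (FEt.restrict R₃).map hid₃)).trans
          ((FEt.restrict γ₂).map_id _)
      inv_hom_id := by
        rw [← Functor.map_comp]
        exact (map_eq_of_iso (restrictFacIso e₄) (congrArg (FEt.restrict R₄).map hid₄)).trans
          ((FEt.restrict γ₂).map_id _) }
  have hγ' : (γ₂ ≫ SB.homOfLE h₂) ≫ SB.homOfLE h₁ = γ := by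
    rw [← cancel_mono W.ι]
    simp only [γ₂, R₃, Category.assoc]
    rw [Scheme.homOfLE_ι, Scheme.homOfLE_ι, Scheme.homOfLE_ι, Scheme.homOfLE_ι]
    exact IsOpenImmersion.lift_fac O.ι (γ ≫ W.ι) (by
      rw [Scheme.Opens.range_ι]
      exact fun x hx => ⟨hγ U₃ u₃ hu₃W hx, hγ U₄ u₄ hu₄W hx⟩)
  have e₂ : γ₂ ≫ SB.homOfLE h₂ = γ₂ ≫ SB.homOfLE h₂ := rfl
  let dM : (FEt.restrict γ).obj M ≅ (FEt.restrict γ₂).obj (G.obj (F.obj M)) :=
    (restrictFacIso hγ').app M ≪≫ (restrictFacIso e₂).app (F.obj M)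
  let dN : (FEt.restrict γ).obj N ≅ (FEt.restrict γ₂).obj (G.obj (F.obj N)) :=
    (restrictFacIso hγ').app N ≪≫ (restrictFacIso e₂).app (F.obj N)
  exact ⟨dM ≪≫ iγ ≪≫ dN.symm⟩

variable [IsNoetherianRing A] [Module.Flat A B]

variable (f : B) (r : B →ₐ[A] A) (hr : RingHom.ker r.toRingHom = Ideal.span {f})

include hr in
theorem mem_of_comap (q : PrimeSpectrum B) (hfq : f ∈ q.asIdeal)
    (h : PrimeSpectrum.comap (algebraMap A B) q = closedPoint A) : q = closedPoint B := by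
  refine PrimeSpectrum.ext ((IsLocalRing.maximalIdeal.isMaximal B).eq_of_le q.2.ne_top fun x hx => ?_).symm
  have hd : x - algebraMap A B (r x) ∈ Ideal.span {f} := by
    rw [← hr, RingHom.mem_ker]
    show r (x - algebraMap A B (r x)) = 0
    rw [map_sub, AlgHom.commutes]
    exact sub_self _
  have hd' := (Ideal.span_singleton_le_iff_mem _).2 hfq hd
  have hrx : r x ∈ maximalIdeal A := fun hu => by
    have h2 : algebraMap A B (r x) ∈ maximalIdeal B := by
      have := sub_mem hx (IsLocalRing.le_maximalIdeal q.2.ne_top hd')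
      rwa [sub_sub_cancel] at this
    exact h2 (hu.map _)
  have h3 : r x ∈ (PrimeSpectrum.comap (algebraMap A B) q).asIdeal := by rw [h]; exact hrx
  have := add_mem hd' (show algebraMap A B (r x) ∈ q.asIdeal from h3)
  rwa [sub_add_cancel] at this

include hr in
theorem purityHolds_of_retraction (hf : f ∈ maximalIdeal B) [IsAdicComplete (Ideal.span {f}) B]
    (hnz : f ∈ nonZeroDivisors B) (hA : (2 : ℕ∞) ≤ LocCoh.depth A A)
    [hPp : ((maximalIdeal A).map (algebraMap A B)).IsPrime] (hfP : f ∉ (maximalIdeal A).map (algebraMap A B)) :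
    FEt.PurityHolds B := by
  refine ⟨fun V => ?_⟩
  let P : Ideal B := (maximalIdeal A).map (algebraMap A B)
  let If : Ideal B := Ideal.span {f}
  have hrs : Function.Surjective r := fun a => ⟨algebraMap A B a, r.commutes a⟩
  -- depths
  obtain ⟨rs, hlen, hm, hreg⟩ := exists_regular hA
  have hregB : IsWeaklyRegular (B ⧸ If) (rs.map (algebraMap A B)) := by
    have hk : RingHom.ker r = If := hr
    refine (isWeaklyRegular_map_algebraMap_iff B (B ⧸ If) rs).2 ?_
    let eI : (B ⧸ If) ≃ₐ[A] (B ⧸ RingHom.ker r) := Ideal.quotientEquivAlgOfEq A hk.symm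
    let eA : (B ⧸ RingHom.ker r) ≃ₐ[A] A := Ideal.quotientKerAlgEquivOfSurjective hrs
    let el : (B ⧸ If) ≃ₗ[A] A := (eI.trans eA).toLinearEquiv
    exact (el.isWeaklyRegular_congr rs).2 hreg
  have hmB : ∀ x ∈ rs.map (algebraMap A B), x ∈ maximalIdeal B := fun x hx => by
    obtain ⟨y, hy, rfl⟩ := List.mem_map.1 hx
    exact IsLocalRing.map_maximalIdeal_le (algebraMap A B) (Ideal.mem_map_of_mem _ (hm y hy))
  have h2 : ((2 : ℕ) : ℕ∞) ≤ LocCoh.idealDepth (maximalIdeal B) (B ⧸ If) := by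
    have := Groth.L04.length_le_idealDepth hregB hmB
    rwa [List.length_map, hlen] at this
  have hH := (Groth.L04.LC.le_idealDepth_iff_H (maximalIdeal B) (B ⧸ If) 2).1 h2
  haveI := hH 1 one_lt_two
  have hfin : Module.Finite B (LocCoh.H (maximalIdeal B) 1 (B ⧸ If)) := inferInstance
  have h3 : (3 : ℕ∞) ≤ LocCoh.depth B B := by
    have hreg3 : IsWeaklyRegular B (f :: rs.map (algebraMap A B)) := by
      refine (isWeaklyRegular_cons_iff B f _).2 ⟨?_, ?_⟩
      · exact (isSMulRegular_iff_right_eq_zero_of_smul).2 fun x hx => hnz.1 x hx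
      · refine ((Submodule.quotEquivOfEq _ _ ?_).isWeaklyRegular_congr _).2 hregB
        rw [← Submodule.ideal_span_singleton_smul, smul_eq_mul, Ideal.mul_top]
    have := Groth.L04.length_le_idealDepth hreg3 (I := maximalIdeal B) (fun x hx => by
      rcases List.mem_cons.1 hx with rfl | hx
      exacts [hf, hmB x hx])
    rw [List.length_cons, List.length_map, hlen] at this
    exact this
  -- geometry
  let SA := Spec (CommRingCat.of A)
  let SB := Spec (CommRingCat.of B)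
  let p : SB ⟶ SA := Spec.map (CommRingCat.ofHom (algebraMap A B))
  let σ₀ : SA ⟶ SB := Spec.map (CommRingCat.ofHom r.toRingHom)
  let UA : SA.Opens := FEt.puncturedSpec A
  let UB : SB.Opens := FEt.puncturedSpec B
  let q : Spec (CommRingCat.of (B ⧸ If)) ⟶ SB := Spec.map (CommRingCat.ofHom (Ideal.Quotient.mk If))
  let W : SB.Opens := p ⁻¹ᵁ UA
  have hWU : W ≤ UB := fun x hx hx' => hx (by
    subst hx'
    exact IsLocalRing.comap_closedPoint (algebraMap A B))
  let j : (W : Scheme.{u}) ⟶ (UB : Scheme.{u}) := SB.homOfLE hWU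
  let pW : (W : Scheme.{u}) ⟶ (UA : Scheme.{u}) := IsOpenImmersion.lift UA.ι (W.ι ≫ p) (by
    rintro _ ⟨z, rfl⟩
    rw [Scheme.Opens.range_ι]
    exact z.2)
  have hpW : pW ≫ UA.ι = W.ι ≫ p := IsOpenImmersion.lift_fac _ _ _
  let σ : (UA : Scheme.{u}) ⟶ (UB : Scheme.{u}) := IsOpenImmersion.lift UB.ι (UA.ι ≫ σ₀) (by
    rintro _ ⟨z, rfl⟩
    rw [Scheme.Opens.range_ι]
    intro hz
    refine z.2 (PrimeSpectrum.ext ((IsLocalRing.maximalIdeal.isMaximal A).eq_of_le
      (show PrimeSpectrum A from z.1).2.ne_top fun a ha => ?_).symm)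
    have h1 : algebraMap A B a ∈ (σ₀ z.1).asIdeal := by
      rw [show σ₀ z.1 = closedPoint B from hz]
      exact IsLocalRing.map_maximalIdeal_le (algebraMap A B) (Ideal.mem_map_of_mem _ ha)
    have h2 : r (algebraMap A B a) ∈ (show PrimeSpectrum A from z.1).asIdeal := h1
    rwa [r.commutes] at h2)
  have hσ : σ ≫ UB.ι = UA.ι ≫ σ₀ := IsOpenImmersion.lift_fac _ _ _
  let VA := (FEt.restrict σ).obj V
  -- the section
  have hqs : q ≫ p ≫ σ₀ = q := by
    show Spec.map _ ≫ Spec.map _ ≫ Spec.map _ = Spec.map _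
    rw [← Spec.map_comp, ← Spec.map_comp]
    refine congrArg Spec.map ?_
    ext b
    show Ideal.Quotient.mk If (algebraMap A B (r b)) = Ideal.Quotient.mk If b
    rw [Ideal.Quotient.eq]
    show algebraMap A B (r b) - b ∈ If
    rw [show If = RingHom.ker r.toRingHom from hr.symm, RingHom.mem_ker]
    show r (algebraMap A B (r b) - b) = 0
    rw [map_sub, AlgHom.commutes]
    exact sub_self _
  have hrange : Set.range (pullback.fst UB.ι q ≫ UB.ι) ⊆ Set.range W.ι := by
    rintro _ ⟨z, rfl⟩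
    rw [Scheme.Opens.range_ι]
    intro hc
    refine (pullback.fst UB.ι q z).2 (mem_of_comap f r hr _ ?_ hc)
    show f ∈ ((pullback.fst UB.ι q ≫ UB.ι) z).asIdeal
    rw [pullback.condition, Scheme.Hom.comp_apply]
    show Ideal.Quotient.mk If f ∈ (pullback.snd UB.ι q z).asIdeal
    rw [Ideal.Quotient.eq_zero_iff_mem.2 (Ideal.mem_span_singleton_self f)]
    exact zero_mem _
  let u₀ : pullback UB.ι q ⟶ (W : Scheme.{u}) :=
    IsOpenImmersion.lift W.ι (pullback.fst UB.ι q ≫ UB.ι) hrange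
  have hu₀ : u₀ ≫ W.ι = pullback.fst UB.ι q ≫ UB.ι := IsOpenImmersion.lift_fac _ _ _
  have hu₀j : u₀ ≫ j = pullback.fst UB.ι q := by
    rw [← cancel_mono UB.ι, Category.assoc, Scheme.homOfLE_ι, hu₀]
  have hkey : (u₀ ≫ pW) ≫ σ = u₀ ≫ j := by
    rw [hu₀j, ← cancel_mono UB.ι, Category.assoc, hσ, Category.assoc, reassoc_of% hpW, reassoc_of% hu₀,
      pullback.condition_assoc, hqs]
    exact pullback.condition.symm
  let VW := (FEt.restrict j).obj V
  let PW := (FEt.restrict pW).obj VA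
  let i0 : (FEt.restrict u₀).obj PW ≅ (FEt.restrict u₀).obj VW :=
    ((restrictFacIso (rfl : u₀ ≫ pW = _)).app VA).symm ≪≫ (sqIso hkey).app V
  -- all admissible opens contain the proper generizations of P
  have hcont : ∀ {O : SB.Opens} (u : pullback UB.ι q ⟶ (O : Scheme.{u})), u ≫ O.ι = pullback.fst UB.ι q ≫ UB.ι →
      ∀ P' : PrimeSpectrum B, P'.asIdeal < P → P' ∈ O := by
    intro O u hu P' hP'
    obtain ⟨Q, hle, hfQ, hQ⟩ := exists_mem_punctured f hf P hfP P' hP'
    obtain ⟨x, hx⟩ : Q ∈ Set.range q := by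
      show Q ∈ Set.range (PrimeSpectrum.comap (Ideal.Quotient.mk If))
      rw [range_comap_of_surjective _ _ Ideal.Quotient.mk_surjective, Ideal.mk_ker, PrimeSpectrum.mem_zeroLocus]
      exact (Ideal.span_singleton_le_iff_mem _).2 hfQ
    obtain ⟨z, hz, -⟩ := Scheme.Pullback.exists_preimage_pullback (f := UB.ι) (g := q) ⟨Q, hQ⟩ x hx.symm
    have hQO : Q ∈ O := by
      have := congrArg (fun m : pullback UB.ι q ⟶ SB => m z) hu
      simp only [Scheme.Hom.comp_apply] at this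
      rw [hz] at this
      rw [show Q = O.ι (u z) from this.symm]
      exact (u z).2
    exact ((PrimeSpectrum.le_iff_specializes P' Q).1 hle).mem_open O.2 hQO
  -- the point P
  let C := Localization.AtPrime P
  haveI : IsNoetherianRing C := IsLocalization.isNoetherianRing P.primeCompl C inferInstance
  haveI : Module.Flat A C := Module.Flat.trans A B C
  have hPA : P.comap (algebraMap A B) = maximalIdeal A :=
    ((IsLocalRing.maximalIdeal.isMaximal A).eq_of_le (Ideal.comap_ne_top _ hPp.ne_top) Ideal.le_comap_map).symm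
  haveI : IsLocalHom (algebraMap A C) := by
    refine ((IsLocalRing.local_hom_TFAE (algebraMap A C)).out 4 0).1 ?_
    rw [IsScalarTower.algebraMap_eq A B C, ← Ideal.comap_comap,
      show (maximalIdeal C).comap (algebraMap B C) = P from Localization.AtPrime.comap_maximalIdeal, hPA]
  have hcl : ∀ x : PrimeSpectrum C, PrimeSpectrum.comap (algebraMap A C) x = closedPoint A → x = closedPoint C := by
    intro x hx
    refine PrimeSpectrum.ext ((IsLocalRing.maximalIdeal.isMaximal C).eq_of_le x.2.ne_top ?_).symm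
    rw [← Localization.AtPrime.map_eq_maximalIdeal (I := P), Ideal.map_map, ← IsScalarTower.algebraMap_eq,
      Ideal.map_le_iff_le_comap]
    exact le_of_eq (congrArg PrimeSpectrum.asIdeal hx).symm
  let SC := Spec (CommRingCat.of C)
  let cB : SC ⟶ SB := Spec.map (CommRingCat.ofHom (algebraMap B C))
  let sp : SC ⟶ SA := Spec.map (CommRingCat.ofHom (algebraMap A C))
  have hsp : cB ≫ p = sp := by
    show Spec.map _ ≫ Spec.map _ = Spec.map _
    rw [← Spec.map_comp, ← CommRingCat.ofHom_comp, ← IsScalarTower.algebraMap_eq]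
  have hcBle : ∀ x : SC, (cB x).asIdeal ≤ P := fun x => by
    conv_rhs => rw [← (Localization.AtPrime.comap_maximalIdeal : (maximalIdeal C).comap (algebraMap B C) = P)]
    exact Ideal.comap_mono (IsLocalRing.le_maximalIdeal (show PrimeSpectrum C from x).2.ne_top)
  let ω : SC ⟶ (UB : Scheme.{u}) := IsOpenImmersion.lift UB.ι cB (by
    rintro _ ⟨x, rfl⟩
    rw [Scheme.Opens.range_ι]
    intro hx
    refine hfP (hcBle x ?_)
    rw [show cB x = closedPoint B from hx]
    exact hf)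
  have hω : ω ≫ UB.ι = cB := IsOpenImmersion.lift_fac _ _ _
  let Y' := (FEt.restrict ω).obj V
  let P₀ := pullback UA.ι sp
  have hlt : ∀ z : P₀, (cB (pullback.snd UA.ι sp z)).asIdeal < P := fun z => by
    refine lt_of_le_of_ne (hcBle _) fun he => (pullback.fst UA.ι sp z).2 ?_
    have h1 : sp (pullback.snd UA.ι sp z) = (pullback.fst UA.ι sp z).1 := by
      rw [← Scheme.Hom.comp_apply, ← pullback.condition]; rfl
    have h4 : sp (pullback.snd UA.ι sp z) = p (cB (pullback.snd UA.ι sp z)) := by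
      rw [← Scheme.Hom.comp_apply cB p, hsp]
    rw [← h1, h4]
    refine PrimeSpectrum.ext ?_
    show (cB _).asIdeal.comap (algebraMap A B) = maximalIdeal A
    rw [he, hPA]
  let γW : P₀ ⟶ (W : Scheme.{u}) := IsOpenImmersion.lift W.ι (pullback.snd UA.ι sp ≫ cB) (by
    rintro _ ⟨z, rfl⟩
    rw [Scheme.Opens.range_ι, Scheme.Hom.comp_apply]
    show p (cB _) ∈ UA
    have h4 : sp (pullback.snd UA.ι sp z) = p (cB (pullback.snd UA.ι sp z)) := by
      rw [← Scheme.Hom.comp_apply cB p, hsp]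
    rw [← h4, ← Scheme.Hom.comp_apply, ← pullback.condition]
    exact (pullback.fst UA.ι sp z).2)
  have hγW : γW ≫ W.ι = pullback.snd UA.ι sp ≫ cB := IsOpenImmersion.lift_fac _ _ _
  obtain ⟨iγ⟩ := nonempty_iso_of_iso_special f hf hnz hfin W hWU u₀ hu₀ PW VW i0 γW fun O u hu => by
    rw [hγW]
    rintro _ ⟨z, rfl⟩
    exact hcont u hu _ (hlt z)
  have hB : γW ≫ j = pullback.snd UA.ι sp ≫ ω := by
    rw [← cancel_mono UB.ι, Category.assoc, Scheme.homOfLE_ι, hγW, Category.assoc, hω]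
  have hA' : γW ≫ pW = pullback.fst UA.ι sp := by
    rw [← cancel_mono UA.ι, Category.assoc, hpW, reassoc_of% hγW, hsp, pullback.condition]
  let e : (FEt.restrict (pullback.snd UA.ι sp)).obj Y' ≅ (FEt.restrict (pullback.fst UA.ι sp)).obj VA :=
    (sqIso hB.symm).app V ≪≫ iγ.symm ≪≫ ((restrictFacIso hA').app VA).symm
  obtain ⟨Y, ⟨eY⟩⟩ := Groth.L27.PurityFlat.exists_extension_of_flat A hcl (two_le_depth_of_flat hA) VA Y' e
  -- conclude
  let qA : Spec (CommRingCat.of (B ⧸ If)) ⟶ SA := q ≫ p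
  have hA₀ : pullback.snd UB.ι q ≫ qA = (u₀ ≫ pW) ≫ UA.ι := by
    rw [Category.assoc, hpW, reassoc_of% hu₀, pullback.condition_assoc]
  obtain ⟨X, hX⟩ := Groth.Agent.S0261.result B h3 f hf V ⟨(FEt.restrict qA).obj Y, ⟨(sqIso hA₀).app Y ≪≫
    (FEt.restrict (u₀ ≫ pW)).mapIso eY ≪≫ (restrictFacIso rfl).app VA ≪≫ i0 ≪≫
    ((restrictFacIso hu₀j).app V).symm⟩⟩
  exact ⟨X, hX⟩

end Groth.L27.PurityRetract
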